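import Mathlib.AlgebraicGeometry.Normalization
import Mathlib.AlgebraicGeometry.Morphisms.Proper

/-!
# Stein factorization of universally closed morphisms

For a universally closed quasi-separated morphism the normalization has the same sections as the source.
-/

set_option autoImplicit false

universe u

open CategoryTheory CategoryTheory.Limits AlgebraicGeometry TopologicalSpace

set_option backward.isDefEq.respectTransparency false

noncomputable section

namespace Groth.Agent.SteinGen

variable {X Y : Scheme.{u}}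

/-- Sections over an affine open are integral, for a universally closed morphism. -/
theorem isIntegral_app (f : X ⟶ Y) [UniversallyClosed f] {V : Y.Opens} (hV : IsAffineOpen V) :
    (f.app V).hom.IsIntegral := by
  haveI : IsAffine V.toScheme := hV
  haveI : UniversallyClosed (f ∣_ V) :=
    IsZariskiLocalAtTarget.restrict (P := @UniversallyClosed) ‹_› V
  have h := isIntegral_appTop_of_universallyClosed (f ∣_ V)
  rw [morphismRestrict_appTop] at h
  have key : ∀ V' : Y.Opens, V' = V → ∀ {W : X.Opens} (e : W = f ⁻¹ᵁ V'),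
      (f.app V' ≫ X.presheaf.map (eqToHom e).op).hom.IsIntegral → (f.app V).hom.IsIntegral := by
    rintro _ rfl W e hi
    exact (RingHom.isIntegral_respectsIso.cancel_right_isIso _ _).mp hi
  exact key _ V.ι_image_top _ h

/-- Isomorphy of the map on sections localizes to basic opens. -/
theorem bijective_app_basicOpen (g : X ⟶ Y) [QuasiCompact g] [QuasiSeparated g] {W : Y.Opens}
    (hW : IsAffineOpen W) (h : Function.Bijective (g.app W)) (r : Γ(Y, W)) :
    Function.Bijective (g.app (Y.basicOpen r)) := by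
  letI : Algebra Γ(Y, W) Γ(Y, Y.basicOpen r) :=
    (Y.presheaf.map (homOfLE (Y.basicOpen_le r)).op).hom.toAlgebra
  letI : Algebra Γ(X, g ⁻¹ᵁ W) Γ(X, g ⁻¹ᵁ Y.basicOpen r) :=
    (X.presheaf.map (homOfLE (g.preimage_mono (Y.basicOpen_le r))).op).hom.toAlgebra
  haveI : IsLocalization.Away r Γ(Y, Y.basicOpen r) := hW.isLocalization_basicOpen r
  haveI : IsLocalization.Away (g.app W r) Γ(X, g ⁻¹ᵁ Y.basicOpen r) := by
    have key : ∀ (V : X.Opens), V = X.basicOpen (g.app W r) → ∀ (e : V ≤ g ⁻¹ᵁ W),
        letI := (X.presheaf.map (homOfLE e).op).hom.toAlgebra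
        IsLocalization.Away (g.app W r) Γ(X, V) := by
      rintro _ rfl e
      exact isLocalization_basicOpen_of_qcqs (g.isCompact_preimage hW.isCompact)
        (g.isQuasiSeparated_preimage hW.isQuasiSeparated) (g.app W r)
    exact key _ (g.preimage_basicOpen r) _
  let e : Γ(Y, W) ≃+* Γ(X, g ⁻¹ᵁ W) := RingEquiv.ofBijective (g.app W).hom h
  have hH : (Submonoid.powers r).map e.toMonoidHom = Submonoid.powers (g.app W r) := Submonoid.map_powers _ r
  let E := IsLocalization.ringEquivOfRingEquiv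
    Γ(Y, Y.basicOpen r) Γ(X, g ⁻¹ᵁ Y.basicOpen r) e hH
  have : (g.app (Y.basicOpen r)).hom = E.toRingHom := by
    refine IsLocalization.ringHom_ext (Submonoid.powers r) (RingHom.ext fun a ↦ ?_)
    refine (ConcreteCategory.congr_hom (g.naturality (homOfLE (Y.basicOpen_le r)).op) a).trans ?_
    exact (IsLocalization.ringEquivOfRingEquiv_eq (S := Γ(Y, Y.basicOpen r))
      (Q := Γ(X, g ⁻¹ᵁ Y.basicOpen r)) hH a).symm
  show Function.Bijective (g.app (Y.basicOpen r)).hom
  rw [this]
  exact E.bijective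

/-- A morphism is an isomorphism on sections if it is so over the members of an affine cover. -/
theorem isIso_app_of_affine_cover (g : X ⟶ Y) [QuasiCompact g] [QuasiSeparated g] {ι : Type*}
    (W : ι → Y.Opens) (hW : ∀ i, IsAffineOpen (W i)) (hcov : ∀ y, ∃ i, y ∈ W i)
    (h : ∀ i, Function.Bijective (g.app (W i))) (U : Y.Opens) : IsIso (g.app U) := by
  let B : Set Y.Opens := {V | ∃ (i : ι) (r : Γ(Y, W i)), V = Y.basicOpen r}
  have hB : Opens.IsBasis B := by
    rw [Opens.isBasis_iff_nbhd]
    intro V y hy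
    obtain ⟨i, hi⟩ := hcov y
    obtain ⟨r, hr, hyr⟩ := (hW i).exists_basicOpen_le (V := V) ⟨y, hy⟩ hi
    exact ⟨_, ⟨i, r, rfl⟩, hyr, hr⟩
  have hbij : ∀ V ∈ B, Function.Bijective (g.app V) := by
    rintro _ ⟨i, r, rfl⟩
    exact bijective_app_basicOpen g (hW i) (h i) r
  let φ : Y.sheaf ⟶ (TopCat.Sheaf.pushforward _ g.base).obj X.sheaf :=
    ⟨g.c⟩
  have hst : ∀ y : Y, Function.Bijective ((TopCat.Presheaf.stalkFunctor CommRingCat y).map φ.1) := by
    intro y
    refine ⟨TopCat.Presheaf.stalkFunctor_map_injective_of_isBasis hB (fun V hV ↦ (hbij V hV).1) y, fun t ↦ ?_⟩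
    obtain ⟨V, hyV, hV, t, rfl⟩ := TopCat.Presheaf.exists_mem_germ_eq_of_isBasis hB _ y t
    obtain ⟨s, rfl⟩ := (hbij V hV).2 t
    exact ⟨Y.presheaf.germ V y hyV s, TopCat.Presheaf.stalkFunctor_map_germ_apply V y hyV φ.1 s⟩
  exact (ConcreteCategory.isIso_iff_bijective _).mpr
    (TopCat.Presheaf.app_bijective_of_stalkFunctor_map_bijective φ U fun y _ ↦ hst y)

/-- The sections of the normalization are those of the source. -/
theorem isIso_toNormalization_app (f : X ⟶ Y) [UniversallyClosed f] [QuasiSeparated f]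
    (U : f.normalization.Opens) : IsIso (f.toNormalization.app U) := by
  refine isIso_app_of_affine_cover f.toNormalization (fun V : Y.affineOpens ↦ f.fromNormalization ⁻¹ᵁ V.1)
    (fun V ↦ V.2.preimage _) (fun y ↦ ?_) (fun V ↦ ?_) U
  · obtain ⟨V, hV, hy, -⟩ := exists_isAffineOpen_mem_and_subset (x := f.fromNormalization y) (U := ⊤) trivial
    exact ⟨⟨V, hV⟩, hy⟩
  · letI := (f.app V.1).hom.toAlgebra
    have hint : ∀ x : Γ(X, f ⁻¹ᵁ V.1), x ∈ integralClosure Γ(Y, V.1) Γ(X, f ⁻¹ᵁ V.1) :=
      fun x ↦ isIntegral_app f V.2 x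
    rw [f.toNormalization_app_preimage V]
    haveI : IsIso (CommRingCat.ofHom (integralClosure Γ(Y, V.1) Γ(X, f ⁻¹ᵁ V.1)).val.toRingHom) :=
      (ConcreteCategory.isIso_iff_bijective _).mpr ⟨Subtype.val_injective, fun x ↦ ⟨⟨x, hint x⟩, rfl⟩⟩
    refine (ConcreteCategory.isIso_iff_bijective _).mp ?_
    exact IsIso.comp_isIso' inferInstance (IsIso.comp_isIso' this inferInstance)

end Groth.Agent.SteinGen
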