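import Groth.Agent.SteinGen.Basic
import Groth.Agent.ZarConn.ProperFT
import Groth.Agent.ZarConn.Components
import Groth.Agent.GeomFib.Consequences
import Groth.Agent.FinFibImage.Main
import Groth.Agent.FinFibImage.BaseChange
import Groth.Agent.Hensel.HenselizationProps

/-!
# Fibres of proper morphisms with trivial global sections are geometrically connected
-/

set_option autoImplicit false

universe u

open CategoryTheory CategoryTheory.Limits AlgebraicGeometry IsLocalRing TopologicalSpace

set_option backward.isDefEq.respectTransparency false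
set_option linter.style.haveILetI false
set_option linter.overlappingInstances false

noncomputable section

namespace Groth.Agent.SteinGen

/-- Over a henselian local base, trivial global sections give a connected closed fibre. -/
theorem connectedSpace_closedFibre {A : Type u} [CommRing A] [IsLocalRing A] [HenselianLocalRing A]
    {X : Scheme.{u}} (f : X ⟶ Spec (CommRingCat.of A)) [IsProper f] (h : IsIso f.appTop) :
    ConnectedSpace ↥(f.base ⁻¹' {ZarConn.cpt A}) := by
  haveI : HenselianRing A (maximalIdeal A) := inferInstance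
  let e : A ≃+* Γ(X, ⊤) :=
    ((Scheme.ΓSpecIso (CommRingCat.of A)).symm ≪≫ asIso f.appTop).commRingCatIsoToRingEquiv
  haveI : Nontrivial Γ(X, ⊤) := e.toEquiv.symm.nontrivial
  haveI : IsLocalRing Γ(X, ⊤) := IsLocalRing.of_surjective' e.toRingHom e.surjective
  let F := f.base ⁻¹' {ZarConn.cpt A}
  have hFc : IsClosed F := ZarConn.isClosed_cpt.preimage f.continuous
  have hmem : ∀ x : X, maximalIdeal A ≤ (f x).asIdeal ↔ x ∈ F := fun x ↦
    ⟨fun h ↦ PrimeSpectrum.ext ((maximalIdeal.isMaximal A).eq_of_le (f x).isPrime.ne_top h).symm,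
      fun h ↦ (congrArg PrimeSpectrum.asIdeal (show f x = ZarConn.cpt A from h)).ge⟩
  rw [connectedSpace_iff_clopen]
  refine ⟨?_, fun C hC ↦ ?_⟩
  · obtain ⟨x⟩ : Nonempty X := by
      by_contra hne
      rw [not_nonempty_iff] at hne
      haveI : Subsingleton Γ(X, ⊤) := by
        rw [show (⊤ : X.Opens) = ⊥ from Subsingleton.elim _ _]
        exact inferInstance
      exact one_ne_zero (Subsingleton.elim (1 : Γ(X, ⊤)) 0)
    obtain ⟨y, hy, -⟩ := ZarConn.meet_closed f x
    exact ⟨⟨y, hy⟩⟩
  · obtain ⟨W, hW, h1, h2⟩ := ZarConn.exists_clopen_extension_proper (maximalIdeal A) f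
      (Subtype.val '' C) (Subtype.val '' Cᶜ) (hFc.isClosedEmbedding_subtypeVal.isClosedMap _ hC.1)
      (hFc.isClosedEmbedding_subtypeVal.isClosedMap _ hC.compl.1)
      ((Set.disjoint_image_iff Subtype.val_injective).mpr disjoint_compl_right)
      (fun x ↦ by
        rw [← Set.image_union, Set.union_compl_self, Set.image_univ, Subtype.range_coe]
        exact hmem x)
    obtain ⟨ε, hε, hεW⟩ := FinFibImage.exists_idem_of_isClopen W hW
    rcases IsLocalRing.isUnit_or_isUnit_one_sub_self ε with hu | hu
    · refine Or.inr (Set.eq_univ_of_forall fun z ↦ by_contra fun hz ↦ h2.notMem_of_mem_left ⟨z, hz, rfl⟩ ?_)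
      rw [← hεW, Scheme.basicOpen_of_isUnit _ hu]
      trivial
    · have h0 : ε = 0 := hu.mul_left_eq_zero.mp (by rw [mul_sub, mul_one, hε.eq, sub_self])
      refine Or.inl (Set.eq_empty_of_forall_notMem fun z hz ↦ ?_)
      have : (z : X) ∈ (X.basicOpen ε : Set X) := hεW.ge (h1 ⟨z, hz, rfl⟩)
      simp [h0] at this

/-- A flat strictly henselian local algebra centred at a given prime. -/
theorem exists_strictly_henselian_flat (R : Type u) [CommRing R] (p : Ideal R) [p.IsPrime] :
    ∃ (S : Type u) (_ : CommRing S) (_ : IsLocalRing S) (_ : HenselianLocalRing S)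
      (_ : IsSepClosed (ResidueField S)) (ψ : R →+* S), ψ.Flat ∧ (maximalIdeal S).comap ψ = p := by
  obtain ⟨hloc, hS⟩ := Hensel.exists_strictHenselization (Localization.AtPrime p)
  haveI := hloc
  haveI := hS
  refine ⟨_, inferInstance, inferInstance, hS.henselian, hS.isSepClosure.sep_closed,
    (algebraMap (Localization.AtPrime p) (Hensel.Env (Localization.AtPrime p)
      (SeparableClosure (ResidueField (Localization.AtPrime p))))).comp (algebraMap R (Localization.AtPrime p)),
    RingHom.Flat.comp (RingHom.flat_algebraMap_iff.mpr (IsLocalization.flat _ p.primeCompl))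
      (RingHom.flat_algebraMap_iff.mpr (Hensel.strictHenselization_flat _ _)), ?_⟩
  rw [← Ideal.comap_comap, (((IsLocalRing.local_hom_TFAE (algebraMap (Localization.AtPrime p) (Hensel.Env (Localization.AtPrime p) (SeparableClosure (ResidueField (Localization.AtPrime p)))))).out 0 4 rfl rfl).mp hloc : Ideal.comap _ _ = maximalIdeal _)]
  exact Localization.AtPrime.comap_maximalIdeal

/-- With trivial global sections the geometric fibres of a proper morphism to an affine scheme are
connected. -/
theorem nGeom_eq_one {R : Type u} [CommRing R] {X : Scheme.{u}} (f : X ⟶ Spec (CommRingCat.of R))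
    [IsProper f] (h : IsIso f.appTop) (p : ↥(Spec (CommRingCat.of R))) :
    MoreMor.nGeomConnComp f p = 1 := by
  obtain ⟨S, _, _, _, _, ψ, hψ, hψp⟩ := exists_strictly_henselian_flat R p.asIdeal
  let φ : Spec (CommRingCat.of S) ⟶ Spec (CommRingCat.of R) := Spec.map (CommRingCat.ofHom ψ)
  haveI : Flat φ := (HasRingHomProperty.Spec_iff (P := @Flat)).mpr hψ
  have hφ : φ (ZarConn.cpt S) = p := by
    exact PrimeSpectrum.ext hψp
  let g := pullback.snd f φ
  have hsq : IsPullback (pullback.fst f φ) g f φ := IsPullback.of_hasPullback f φ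
  haveI : IsProper g := MorphismProperty.pullback_snd _ _ inferInstance
  haveI : CompactSpace X := QuasiCompact.compactSpace_of_compactSpace f
  haveI : QuasiSeparatedSpace X := quasiSeparatedSpace_of_quasiSeparated f
  have hg : IsIso g.appTop := (FinFibImage.isPushout_appTop hsq).isIso_inr_of_isIso h
  haveI : IsLocalRing S := inferInstance
  have hc := connectedSpace_closedFibre g hg
  rw [← hφ, ← (GeomFib.nGeom_baseChange hsq (ZarConn.cpt S)).2, ZarConn.nGeom_closed_sep g,
    ← GeomFib.connectedSpace_iff_card]
  exact hc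

end Groth.Agent.SteinGen

namespace Groth.Agent.SteinGen

/-- The Stein factorization has geometrically connected fibres. -/
theorem nGeom_toNormalization {X S : Scheme.{u}} (f : X ⟶ S) [IsProper f] (s : f.normalization) :
    MoreMor.nGeomConnComp f.toNormalization s = 1 := by
  haveI : IsProper (f.toNormalization ≫ f.fromNormalization) := by
    rw [f.toNormalization_fromNormalization]; infer_instance
  haveI : IsProper f.toNormalization := IsProper.of_comp f.toNormalization f.fromNormalization
  obtain ⟨V, hV, hs, -⟩ := exists_isAffineOpen_mem_and_subset (x := s) (U := (⊤ : f.normalization.Opens)) trivial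
  let f' := (f.toNormalization ∣_ V) ≫ hV.isoSpec.hom
  haveI : IsIso (f.toNormalization.app (V.ι ''ᵁ ⊤)) := isIso_toNormalization_app f _
  have h' : IsIso f'.appTop := by
    rw [Scheme.Hom.comp_appTop, morphismRestrict_appTop]
    infer_instance
  have hsq : IsPullback (f.toNormalization ⁻¹ᵁ V).ι f' f.toNormalization (hV.isoSpec.inv ≫ V.ι) := by
    refine IsPullback.of_iso (isPullback_morphismRestrict f.toNormalization V).flip (Iso.refl _) (Iso.refl _)
      hV.isoSpec (Iso.refl _) (by simp) (by simp [f']) (by simp) (by simp)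
  haveI : IsProper f' := MorphismProperty.of_isPullback hsq inferInstance
  rw [show s = (hV.isoSpec.inv ≫ V.ι) (hV.isoSpec.hom ⟨s, hs⟩) from ?_]
  · rw [← (GeomFib.nGeom_baseChange hsq _).2]
    exact nGeom_eq_one f' h' _
  · rw [← Scheme.Hom.comp_apply, Iso.hom_inv_id_assoc]
    rfl

end Groth.Agent.SteinGen

namespace Groth.Agent.SteinGen

/-- Trivial direct image of the structure sheaf gives geometrically connected fibres. -/
theorem geometricallyConnected_of_isIso_app {X S : Scheme.{u}} (f : X ⟶ S) [IsProper f]
    (h : ∀ U : S.Opens, IsIso (f.app U)) : GeometricallyConnected f := by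
  refine (GeometricallyConnected.iff_geometricallyConnected_fiber f).mpr fun s ↦
    (GeomFib.geometricallyConnected_fiber_iff f s).mpr ?_
  obtain ⟨V, hV, hs, -⟩ := exists_isAffineOpen_mem_and_subset (x := s) (U := (⊤ : S.Opens)) trivial
  let f' := (f ∣_ V) ≫ hV.isoSpec.hom
  haveI := h (V.ι ''ᵁ ⊤)
  have h' : IsIso f'.appTop := by
    rw [Scheme.Hom.comp_appTop, morphismRestrict_appTop]
    infer_instance
  have hsq : IsPullback (f ⁻¹ᵁ V).ι f' f (hV.isoSpec.inv ≫ V.ι) := by
    refine IsPullback.of_iso (isPullback_morphismRestrict f V).flip (Iso.refl _) (Iso.refl _)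
      hV.isoSpec (Iso.refl _) (by simp) (by simp [f']) (by simp) (by simp)
  haveI : IsProper f' := MorphismProperty.of_isPullback hsq inferInstance
  rw [show s = (hV.isoSpec.inv ≫ V.ι) (hV.isoSpec.hom ⟨s, hs⟩) from ?_]
  · rw [← (GeomFib.nGeom_baseChange hsq _).2]
    exact nGeom_eq_one f' h' _
  · rw [← Scheme.Hom.comp_apply, Iso.hom_inv_id_assoc]
    rfl

end Groth.Agent.SteinGen
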