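import Groth.Agent.SteinGen.Factor
import Groth.Agent.ZarConn.FieldLevel

/-!
# Components of fibres and the Stein factorization
-/

set_option autoImplicit false

universe u

open CategoryTheory CategoryTheory.Limits AlgebraicGeometry TopologicalSpace

set_option backward.isDefEq.respectTransparency false
set_option linter.style.haveILetI false

noncomputable section

namespace Groth.Agent.SteinGen

/-- A closed surjection with connected fibres pulls connected sets back to connected sets. -/
theorem isConnected_preimage_of_closed {α β : Type*} [TopologicalSpace α] [TopologicalSpace β] {q : α → β}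
    (hq : IsClosedMap q) (hs : Function.Surjective q) (hfib : ∀ b, _root_.IsConnected (q ⁻¹' {b}))
    {Z : Set β} (hZ : _root_.IsConnected Z) : _root_.IsConnected (q ⁻¹' Z) := by
  refine ⟨hZ.nonempty.preimage hs, isPreconnected_closed_iff.mpr fun t t' ht ht' hcov ⟨a, ha, hat⟩ ⟨a', ha', hat'⟩ ↦ ?_⟩
  obtain ⟨z, hzZ, ⟨x, hxt, rfl⟩, ⟨x', hxt', hx'⟩⟩ :=
    isPreconnected_closed_iff.mp hZ.isPreconnected (q '' t) (q '' t') (hq t ht) (hq t' ht')
      (fun z hz ↦ by
        obtain ⟨x, rfl⟩ := hs z
        exact (hcov hz).imp (fun h ↦ ⟨x, h, rfl⟩) fun h ↦ ⟨x, h, rfl⟩)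
      ⟨q a, ha, a, hat, rfl⟩ ⟨q a', ha', a', hat', rfl⟩
  obtain ⟨w, hw, hwt⟩ := isPreconnected_closed_iff.mp (hfib (q x)).isPreconnected t t' ht ht'
    (fun y hy ↦ hcov (show q y ∈ Z from (show q y = q x from hy) ▸ hzZ))
    ⟨x, rfl, hxt⟩ ⟨x', hx', hxt'⟩
  refine ⟨w, ?_, hwt⟩
  rw [Set.mem_preimage, show q w = q x from hw]
  exact hzZ

/-- The geometric number of components is that of the finite part of the Stein factorization. -/
theorem nGeom_eq_fromNormalization {X S : Scheme.{u}} (f : X ⟶ S) [IsProper f] (s : S) :
    MoreMor.nGeomConnComp f s = MoreMor.nGeomConnComp f.fromNormalization s := by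
  let v := GeomFib.geomPt s
  have hv := GeomFib.fromSpecResidueField_geomPt s
  rw [(GeomFib.nGeom_eq f v s hv).2, (GeomFib.nGeom_eq f.fromNormalization v s hv).2]
  let r : pullback f v ⟶ pullback f.fromNormalization v :=
    pullback.lift (pullback.fst _ _ ≫ f.toNormalization) (pullback.snd _ _)
      (by rw [Category.assoc, f.toNormalization_fromNormalization, pullback.condition])
  have hr : IsPullback (pullback.fst f v) r f.toNormalization (pullback.fst f.fromNormalization v) := by
    refine IsPullback.of_bot ?_ (pullback.lift_fst _ _ _).symm (IsPullback.of_hasPullback f.fromNormalization v)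
    rw [pullback.lift_snd, f.toNormalization_fromNormalization]
    exact IsPullback.of_hasPullback _ _
  haveI : IsProper (f.toNormalization ≫ f.fromNormalization) := by
    rw [f.toNormalization_fromNormalization]; infer_instance
  haveI : IsProper f.toNormalization := IsProper.of_comp f.toNormalization f.fromNormalization
  haveI : IsProper r := MorphismProperty.of_isPullback (P := @IsProper) hr inferInstance
  haveI : GeometricallyConnected r := MorphismProperty.of_isPullback hr inferInstance
  exact GeomFib.card_connectedComponents_eq r.continuous r.surjective fun Z hZ ↦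
    isConnected_preimage_of_closed r.isClosedMap r.surjective (fun b ↦ r.isConnected_preimage_singleton b) hZ

/-- There are only finitely many geometric components. -/
theorem nGeom_lt_top {X S : Scheme.{u}} (f : X ⟶ S) [IsProper f] (s : S) :
    MoreMor.nGeomConnComp f s < ⊤ := by
  rw [(GeomFib.nGeom_eq f (GeomFib.geomPt s) s (GeomFib.fromSpecResidueField_geomPt s)).2]
  let v := GeomFib.geomPt s
  haveI : IsProper (pullback.snd f v) := MorphismProperty.pullback_snd _ _ inferInstance
  haveI : IsLocallyNoetherian (pullback f v) := LocallyOfFiniteType.isLocallyNoetherian (pullback.snd f v)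
  haveI : CompactSpace ↥(pullback f v) := QuasiCompact.compactSpace_of_compactSpace (pullback.snd f v)
  haveI : IsNoetherian (pullback f v) := {}
  haveI := ZarConn.finite_components ↥(pullback f v)
  exact ENat.card_lt_top_of_finite

end Groth.Agent.SteinGen
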