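import Groth.Agent.Unibranch.Rad

/-!
# Geometric points of purely inseparable extensions over geometrically unibranch primes
-/

set_option autoImplicit false

universe u

open Polynomial

set_option linter.style.haveILetI false

noncomputable section

namespace Groth.Agent.SteinGen

/-- Elements of two domains equal to the same fraction satisfy the same equations. -/
theorem aeval_eq_zero_iff_of_mul_eq {A C C' : Type u} [CommRing A] [CommRing C] [IsDomain C] [CommRing C']
    [IsDomain C'] [Algebra A C] [Algebra A C'] (hC : Function.Injective (algebraMap A C))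
    (hC' : Function.Injective (algebraMap A C')) {a b : A} (hb : b ≠ 0) {y : C} {z : C'}
    (hy : algebraMap A C b * y = algebraMap A C a) (hz : algebraMap A C' b * z = algebraMap A C' a)
    (p : Polynomial A) : aeval y p = 0 ↔ aeval z p = 0 := by
  let N := p.natDegree
  let h : A := ∑ i ∈ Finset.range (N + 1), p.coeff i * a ^ i * b ^ (N - i)
  have key : ∀ {D : Type u} [CommRing D] [IsDomain D] [Algebra A D], Function.Injective (algebraMap A D) →
      ∀ t : D, algebraMap A D b * t = algebraMap A D a → (aeval t p = 0 ↔ h = 0) := by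
    intro D _ _ _ hD t ht
    have e : algebraMap A D h = algebraMap A D b ^ N * aeval t p := by
      rw [aeval_eq_sum_range, Finset.mul_sum, map_sum]
      refine Finset.sum_congr rfl fun i hi ↦ ?_
      rw [map_mul, map_mul, map_pow, map_pow, ← ht, Algebra.smul_def, mul_pow]
      have : algebraMap A D b ^ N = algebraMap A D b ^ i * algebraMap A D b ^ (N - i) := by
        rw [← pow_add, Nat.add_sub_cancel' (Nat.lt_succ_iff.mp (Finset.mem_range.mp hi))]
      rw [this]; ring
    rw [← map_eq_zero_iff _ hD, e, mul_eq_zero]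
    exact (or_iff_right (pow_ne_zero _ ((map_ne_zero_iff _ hD).mpr hb))).symm
  exact (key hC y hy).trans (key hC' z hz).symm

/-- The map between singly generated algebras given by equal equations. -/
theorem exists_algHom_adjoin {A B T : Type u} [CommRing A] [CommRing B] [CommRing T] [Algebra A B]
    [Algebra A T] (y : B) (z : T) (key : ∀ p : Polynomial A, aeval y p = 0 ↔ aeval z p = 0) :
    ∃ j : Algebra.adjoin A {y} →ₐ[A] T, Function.Injective j ∧ j ⟨y, Algebra.self_mem_adjoin_singleton A y⟩ = z := by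
  have hN : ∀ t : Algebra.adjoin A {y}, ∃ p : Polynomial A, aeval y p = t := fun t ↦ by
    obtain ⟨p, hp⟩ : (t : B) ∈ (aeval (R := A) y).range := Algebra.adjoin_singleton_eq_range_aeval A y ▸ t.2
    exact ⟨p, hp⟩
  choose pol hpol using hN
  have hind : ∀ (t : Algebra.adjoin A {y}) (p : Polynomial A), aeval y p = t → aeval z (pol t) = aeval z p :=
    fun t p hp ↦ by rw [← sub_eq_zero, ← map_sub, ← key, map_sub, hpol, hp, sub_self]
  refine ⟨{ toFun := fun t ↦ aeval z (pol t)
            map_one' := by rw [hind 1 1 (by simp), map_one]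
            map_mul' := fun t t' ↦ by rw [hind (t * t') (pol t * pol t') (by simp [hpol]), map_mul]
            map_zero' := by rw [hind 0 0 (by simp), map_zero]
            map_add' := fun t t' ↦ by rw [hind (t + t') (pol t + pol t') (by simp [hpol]), map_add]
            commutes' := fun r ↦ by
              show aeval z (pol (algebraMap A _ r)) = _
              rw [hind _ (C r) (aeval_C _ r), aeval_C] }, fun t t' ht ↦ Subtype.ext ?_, ?_⟩
  · have ht' : aeval z (pol t) = aeval z (pol t') := ht
    rw [← hpol t, ← hpol t', ← sub_eq_zero, ← map_sub, key, map_sub, ht', sub_self]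
  · exact (hind ⟨y, _⟩ X (aeval_X _)).trans (aeval_X _)

/-- Powers by the exponential characteristic of a domain mapping to a field are injective there. -/
theorem eq_of_pow_eq {A Ω : Type u} [CommRing A] [IsDomain A] [Field Ω] (g : A →+* Ω) (q : ℕ) [hq : ExpChar A q]
    (n : ℕ) {s t : Ω} (h : s ^ q ^ n = t ^ q ^ n) : s = t := by
  cases hq with
  | zero => simpa using h
  | prime hp =>
    haveI : CharP Ω q := (CharP.charP_iff_prime_eq_zero hp).mpr (by rw [← map_natCast g, CharP.cast_eq_zero, map_zero])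
    haveI := Fact.mk hp
    exact iterateFrobenius_inj Ω q n (by simpa [iterateFrobenius_def] using h)

/-- Over a geometrically unibranch prime, a purely inseparable integral extension has at most one
geometric point. -/
theorem unique_hom_of_guAt {A B Ω : Type u} [CommRing A] [IsDomain A] [CommRing B] [IsDomain B] [Algebra A B]
    [Algebra.IsIntegral A B] (hinj : Function.Injective (algebraMap A B)) (P : Ideal A) [P.IsPrime]
    (hP : Unibranch.GUAt A P) [Field Ω] (q₀ : ℕ) [ExpChar A q₀]
    (hpi : ∀ x : B, ∃ (n : ℕ) (a b : A), b ≠ 0 ∧ algebraMap A B b * x ^ q₀ ^ n = algebraMap A B a)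
    (φ₁ φ₂ : B →+* Ω) (h : φ₁.comp (algebraMap A B) = φ₂.comp (algebraMap A B))
    (hker : RingHom.ker (φ₁.comp (algebraMap A B)) = P) : φ₁ = φ₂ := by
  obtain ⟨R', _, _, _, hn, hint, hfs, hrad⟩ := hP
  haveI := hn; haveI := hint; haveI := hfs
  have hR : Function.Injective (algebraMap A R') := FaithfulSMul.algebraMap_injective A R'
  refine RingHom.ext fun x ↦ ?_
  obtain ⟨m, a, b, hb, hx⟩ := hpi x
  obtain ⟨z, hz⟩ : ∃ z : R', algebraMap A R' b * z = algebraMap A R' a := by
    let F := FractionRing R'
    have hF : Function.Injective (algebraMap A F) := by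
      rw [IsScalarTower.algebraMap_eq A R' F]
      exact (IsFractionRing.injective R' F).comp hR
    let w : F := algebraMap A F a / algebraMap A F b
    have hw : algebraMap A F b * w = algebraMap A F a := mul_div_cancel₀ _ ((map_ne_zero_iff _ hF).mpr hb)
    obtain ⟨p, hp, hpx⟩ := Algebra.IsIntegral.isIntegral (R := A) (x ^ q₀ ^ m)
    have hwi : IsIntegral A w :=
      ⟨p, hp, (aeval_eq_zero_iff_of_mul_eq hinj hF hb hx hw p).mp hpx⟩
    obtain ⟨z, hz⟩ := IsIntegrallyClosed.isIntegral_iff.mp (hwi.tower_top (A := R'))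
    refine ⟨z, IsFractionRing.injective R' F ?_⟩
    rw [map_mul, hz, ← IsScalarTower.algebraMap_apply, ← IsScalarTower.algebraMap_apply, hw]
  obtain ⟨j, hj, -⟩ := exists_algHom_adjoin (x ^ q₀ ^ m) z fun p ↦ aeval_eq_zero_iff_of_mul_eq hinj hR hb hx hz p
  obtain ⟨q, hq, hr⟩ := hrad.of_injective j hj
    (RingHom.IsIntegral.tower_top (algebraMap A (Algebra.adjoin A {x ^ q₀ ^ m})) j.toRingHom (by
      rw [show j.toRingHom.comp (algebraMap A _) = algebraMap A R' from j.comp_algebraMap]
      exact Algebra.IsIntegral.isIntegral))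
  obtain ⟨n, s, c, hs, hQ⟩ := hr ⟨_, Algebra.self_mem_adjoin_singleton A (x ^ q₀ ^ m)⟩
  have hval : ∀ φ : B →+* Ω, φ.comp (algebraMap A B) = φ₁.comp (algebraMap A B) →
      φ₁ (algebraMap A B s) * (φ x ^ q₀ ^ m) ^ q ^ n = φ₁ (algebraMap A B c) := by
    intro φ hφ
    have h0 := hQ (RingHom.ker (φ.comp (Algebra.adjoin A {x ^ q₀ ^ m}).val.toRingHom)) (RingHom.ker_isPrime _) (by
      rw [RingHom.comap_ker, RingHom.comp_assoc,
        show (Algebra.adjoin A {x ^ q₀ ^ m}).val.toRingHom.comp (algebraMap A _) = algebraMap A B from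
          RingHom.ext fun _ ↦ rfl, hφ, hker])
    rw [RingHom.mem_ker, map_sub, sub_eq_zero, map_mul, map_pow] at h0
    rw [← RingHom.comp_apply φ₁ (algebraMap A B) s, ← RingHom.comp_apply φ₁ (algebraMap A B) c, ← hφ]
    simpa using h0
  have hs' : φ₁ (algebraMap A B s) ≠ 0 := fun e ↦ hs (hker.le (RingHom.mem_ker.mpr e))
  have h3 := mul_left_cancel₀ hs' ((hval φ₁ rfl).trans (hval φ₂ h.symm).symm)
  haveI := hq
  haveI : IsDomain (A ⧸ P) := Ideal.Quotient.isDomain P
  exact eq_of_pow_eq (φ₁.comp (algebraMap A B)) q₀ m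
    (eq_of_pow_eq (Ideal.Quotient.lift P (φ₁.comp (algebraMap A B)) fun r hr ↦ RingHom.mem_ker.mp (hker.ge hr)) q n h3)

/-- Geometric unibranchness at a prime, transported from the quotient by zero. -/
theorem guAt_of_quotient_bot {A : Type u} [CommRing A] {P : Ideal A}
    (h : Unibranch.GUAt (A ⧸ (⊥ : Ideal A)) (P.map (Ideal.Quotient.mk ⊥))) : Unibranch.GUAt A P := by
  obtain ⟨R', _, _, _, hn, hint, hfs, q, hq, hr⟩ := h
  have hR := FaithfulSMul.algebraMap_injective (A ⧸ (⊥ : Ideal A)) R'
  let π : A →+* A ⧸ (⊥ : Ideal A) := Ideal.Quotient.mk ⊥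
  have hπ : Function.Injective π := by
    rw [RingHom.injective_iff_ker_eq_bot, Ideal.mk_ker]
  letI : Algebra A R' := ((algebraMap (A ⧸ (⊥ : Ideal A)) R').comp π).toAlgebra
  have hcomap : (P.map π).comap π = P := by
    rw [Ideal.comap_map_of_surjective _ Ideal.Quotient.mk_surjective, ← RingHom.ker_eq_comap_bot,
      Ideal.mk_ker, sup_bot_eq]
  refine ⟨R', inferInstance, inferInstance, inferInstance, hn, ⟨fun r ↦ ?_⟩, ?_, q, ?_, fun z ↦ ?_⟩
  · exact (RingHom.IsIntegral.trans π (algebraMap _ R') (RingHom.isIntegral_of_surjective _ Ideal.Quotient.mk_surjective)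
      hint.isIntegral) r
  · exact (faithfulSMul_iff_algebraMap_injective A R').mpr (hR.comp hπ)
  · haveI := hq
    exact expChar_of_injective_ringHom (f := Ideal.quotientMap P (RingEquiv.quotientBot A).toRingHom (by
      intro r hr; obtain ⟨r, rfl⟩ := Ideal.Quotient.mk_surjective r; exact hcomap.le (Ideal.mem_comap.mpr hr)))
      (Ideal.quotientMap_injective' (by
        intro r hr; obtain ⟨r, rfl⟩ := Ideal.Quotient.mk_surjective r; exact Ideal.mem_map_of_mem _ hr)) q
  · obtain ⟨n, s, a, hs, hQ⟩ := hr z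
    obtain ⟨s, rfl⟩ := Ideal.Quotient.mk_surjective s
    obtain ⟨a, rfl⟩ := Ideal.Quotient.mk_surjective a
    refine ⟨n, s, a, fun h ↦ hs (Ideal.mem_map_of_mem _ h), fun Q hQp hQc ↦ hQ Q hQp ?_⟩
    refine Ideal.comap_injective_of_surjective π Ideal.Quotient.mk_surjective ?_
    rw [Ideal.comap_comap, hcomap]
    exact hQc

theorem exists_pow_eq_div_aux {A B : Type u} [CommRing A] [IsDomain A] [CommRing B] [IsDomain B] [Algebra A B]
    [Algebra.IsIntegral A B] (K L : Type u) [Field K] [Algebra A K] [IsFractionRing A K] [Field L] [Algebra B L]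
    [IsFractionRing B L] [Algebra A L] [IsScalarTower A B L] [Algebra K L] [IsScalarTower A K L]
    (hinj : Function.Injective (algebraMap A B)) (q₀ : ℕ) [ExpChar A q₀]
    (huniq : ∀ (Ω : Type u) [Field Ω] [IsAlgClosed Ω] (φ₁ φ₂ : B →+* Ω),
      φ₁.comp (algebraMap A B) = φ₂.comp (algebraMap A B) →
      Function.Injective (φ₁.comp (algebraMap A B)) → φ₁ = φ₂) (x : B) :
    ∃ (n : ℕ) (a b : A), b ≠ 0 ∧ algebraMap A B b * x ^ q₀ ^ n = algebraMap A B a := by
  have hinjL : Function.Injective (algebraMap A L) := by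
    rw [IsScalarTower.algebraMap_eq A B L]
    exact (IsFractionRing.injective B L).comp hinj
  haveI : Algebra.IsAlgebraic K L := ⟨fun l ↦ by
    obtain ⟨a, b, hb, rfl⟩ := IsFractionRing.div_surjective (A := B) l
    have hi : ∀ t : B, IsIntegral K (algebraMap B L t) := fun t ↦
      ((Algebra.IsIntegral.isIntegral (R := A) t).map (IsScalarTower.toAlgHom A B L)).tower_top
    rw [div_eq_mul_inv]
    exact ((hi a).mul (hi b).inv).isAlgebraic⟩
  haveI : ExpChar K q₀ := expChar_of_injective_ringHom (IsFractionRing.injective A K) q₀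
  haveI : IsPurelyInseparable K L := by
    rw [isPurelyInseparable_iff_finSepDegree_eq_one, Field.finSepDegree, Nat.card_eq_one_iff_unique]
    refine ⟨⟨fun σ τ ↦ ?_⟩, ⟨IsScalarTower.toAlgHom K L (AlgebraicClosure L)⟩⟩
    refine AlgHom.coe_ringHom_injective (IsLocalization.ringHom_ext (nonZeroDivisors B) ?_)
    refine huniq _ _ _ (RingHom.ext fun r ↦ ?_) ?_
    · show σ (algebraMap B L (algebraMap A B r)) = τ (algebraMap B L (algebraMap A B r))
      rw [← IsScalarTower.algebraMap_apply, IsScalarTower.algebraMap_apply A K L, σ.commutes, τ.commutes]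
    · rw [RingHom.comp_assoc, ← IsScalarTower.algebraMap_eq]
      exact σ.toRingHom.injective.comp hinjL
  obtain ⟨n, c, hc⟩ := IsPurelyInseparable.pow_mem K q₀ (algebraMap B L x)
  obtain ⟨a, b, hb, rfl⟩ := IsFractionRing.div_surjective (A := A) c
  refine ⟨n, a, b, nonZeroDivisors.ne_zero hb, IsFractionRing.injective B L ?_⟩
  rw [map_div₀, ← IsScalarTower.algebraMap_apply, ← IsScalarTower.algebraMap_apply,
    div_eq_iff ((map_ne_zero_iff _ hinjL).mpr (nonZeroDivisors.ne_zero hb))] at hc
  rw [map_mul, map_pow, ← IsScalarTower.algebraMap_apply, ← IsScalarTower.algebraMap_apply, hc, mul_comm]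

/-- Purely inseparable from uniqueness of embeddings in an algebraically closed field. -/
theorem exists_pow_eq_div {A B : Type u} [CommRing A] [IsDomain A] [CommRing B] [IsDomain B] [Algebra A B]
    [Algebra.IsIntegral A B] (hinj : Function.Injective (algebraMap A B)) (q₀ : ℕ) [ExpChar A q₀]
    (huniq : ∀ (Ω : Type u) [Field Ω] [IsAlgClosed Ω] (φ₁ φ₂ : B →+* Ω),
      φ₁.comp (algebraMap A B) = φ₂.comp (algebraMap A B) →
      Function.Injective (φ₁.comp (algebraMap A B)) → φ₁ = φ₂) (x : B) :
    ∃ (n : ℕ) (a b : A), b ≠ 0 ∧ algebraMap A B b * x ^ q₀ ^ n = algebraMap A B a := by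
  have hinjL : Function.Injective ((algebraMap B (FractionRing B)).comp (algebraMap A B)) :=
    (IsFractionRing.injective B (FractionRing B)).comp hinj
  letI : Algebra (FractionRing A) (FractionRing B) := (IsFractionRing.lift hinjL).toAlgebra
  haveI : IsScalarTower A (FractionRing A) (FractionRing B) :=
    .of_algebraMap_eq fun r ↦ ((IsFractionRing.lift_algebraMap hinjL r).trans
      (IsScalarTower.algebraMap_apply A B (FractionRing B) r).symm).symm
  exact exists_pow_eq_div_aux (FractionRing A) (FractionRing B) hinj q₀ huniq x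

end Groth.Agent.SteinGen
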