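import Groth.Agent.SteinGen.Factor
import Groth.Agent.SteinGen.Count
import Groth.Agent.SteinGen.UnibranchAlg

/-!
# Proper schemes over fields: geometric connectedness read off global functions
-/

set_option autoImplicit false

universe u

open CategoryTheory CategoryTheory.Limits AlgebraicGeometry

set_option backward.isDefEq.respectTransparency false
set_option linter.style.haveILetI false

noncomputable section

namespace Groth.Agent.SteinGen

/-- A proper geometrically connected morphism followed by a universally injective integral surjection is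
geometrically connected. -/
theorem geometricallyConnected_comp_univHomeo {X Z S : Scheme.{u}} (a : X ⟶ Z) [IsProper a]
    [GeometricallyConnected a] (b : Z ⟶ S) [IsIntegralHom b] [Surjective b] [UniversallyInjective b] :
    GeometricallyConnected (a ≫ b) := by
  refine (GeometricallyConnected.iff_geometricallyConnected_fiber (a ≫ b)).mpr fun s ↦
    (GeomFib.geometricallyConnected_fiber_iff (a ≫ b) s).mpr ?_
  let v := GeomFib.geomPt s
  rw [(GeomFib.nGeom_eq (a ≫ b) v s (GeomFib.fromSpecResidueField_geomPt s)).2]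
  let r : pullback (a ≫ b) v ⟶ pullback b v :=
    pullback.lift (pullback.fst _ _ ≫ a) (pullback.snd _ _) (by rw [Category.assoc, pullback.condition])
  have hr : IsPullback (pullback.fst (a ≫ b) v) r a (pullback.fst b v) := by
    refine IsPullback.of_bot ?_ (pullback.lift_fst _ _ _).symm (IsPullback.of_hasPullback b v)
    rw [pullback.lift_snd]
    exact IsPullback.of_hasPullback _ _
  haveI : IsProper r := MorphismProperty.of_isPullback (P := @IsProper) hr inferInstance
  haveI : GeometricallyConnected r := MorphismProperty.of_isPullback hr inferInstance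
  rw [GeomFib.card_connectedComponents_eq r.continuous r.surjective fun Z hZ ↦
    isConnected_preimage_of_closed r.isClosedMap r.surjective (fun p ↦ r.isConnected_preimage_singleton p) hZ,
    ← GeomFib.connectedSpace_iff_card]
  let q := pullback.snd b v
  haveI : IsIntegralHom q := MorphismProperty.pullback_snd _ _ inferInstance
  haveI : Surjective q := MorphismProperty.pullback_snd _ _ inferInstance
  haveI : UniversallyInjective q := MorphismProperty.pullback_snd _ _ inferInstance
  exact (IsHomeomorph.homeomorph _ (GeomConn.isHomeomorph_of_integral q)).connectedSpace_iff.mpr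
    (inferInstanceAs (ConnectedSpace (PrimeSpectrum _)))

/-- An integral algebra over a field with at most one embedding into each field is local, zero
dimensional with purely inseparable residue field, in elementwise form. -/
theorem local_of_unique_hom {k R : Type u} [Field k] [CommRing R] [Algebra k R] [Algebra.IsIntegral k R]
    [Nontrivial R]
    (huniq : ∀ (M : Type u) [Field M] (φ₁ φ₂ : R →+* M),
      φ₁.comp (algebraMap k R) = φ₂.comp (algebraMap k R) → φ₁ = φ₂) :
    IsLocalRing R ∧ ringKrullDim R = 0 ∧
      ∀ a : R, ∃ (n : ℕ) (c : k), IsNilpotent (a ^ (ringExpChar k ^ n) - algebraMap k R c) := by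
  have hmax : ∀ p : Ideal R, p.IsPrime → p.IsMaximal := fun p hp ↦ by
    haveI := hp
    refine Ideal.IsIntegral.isMaximal_of_isMaximal_comap (R := k) p ?_
    rw [(Ideal.eq_bot_or_top (p.comap (algebraMap k R))).resolve_right (Ideal.IsPrime.ne_top inferInstance)]
    exact Ideal.bot_isMaximal
  obtain ⟨m, hm⟩ := Ideal.exists_maximal R
  -- two maximal ideals give two embeddings in one algebraically closed field
  have hone : ∀ p : Ideal R, p.IsMaximal → p = m := fun p hp ↦ by
    haveI := hm; haveI := hp
    letI := Ideal.Quotient.field p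
    letI := Ideal.Quotient.field m
    let Ω := AlgebraicClosure k
    have hi : ∀ q : Ideal R, Algebra.IsAlgebraic k (R ⧸ q) := fun q ↦
      ⟨fun z ↦ (Algebra.IsIntegral.isIntegral z).isAlgebraic⟩
    haveI := hi p; haveI := hi m
    let σp : (R ⧸ p) →ₐ[k] Ω := IsAlgClosed.lift
    let σm : (R ⧸ m) →ₐ[k] Ω := IsAlgClosed.lift
    have h := huniq Ω (σp.toRingHom.comp (Ideal.Quotient.mk p)) (σm.toRingHom.comp (Ideal.Quotient.mk m))
      (RingHom.ext fun c ↦ (σp.commutes c).trans (σm.commutes c).symm)
    have h' := congrArg RingHom.ker h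
    rwa [RingHom.ker_comp_of_injective _ σp.toRingHom.injective,
      RingHom.ker_comp_of_injective _ σm.toRingHom.injective, Ideal.mk_ker, Ideal.mk_ker] at h'
  haveI : IsLocalRing R := IsLocalRing.of_unique_max_ideal ⟨m, hm, hone⟩
  haveI : Ring.KrullDimLE 0 R := Ring.KrullDimLE.mk₀ fun p hp ↦ hmax p hp
  refine ⟨inferInstance, le_antisymm (Ring.krullDimLE_iff.mp inferInstance) ringKrullDim_nonneg_of_nontrivial, fun a ↦ ?_⟩
  have hnil : nilradical R = m := by
    rw [nilradical_eq_sInf]
    refine le_antisymm (sInf_le hm.isPrime) (le_sInf fun p hp ↦ (hone p (hmax p hp)).ge)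
  let K := IsLocalRing.ResidueField R
  haveI : Algebra.IsAlgebraic k K := ⟨fun z ↦ by
    obtain ⟨z, rfl⟩ := IsLocalRing.residue_surjective z
    exact ((Algebra.IsIntegral.isIntegral (R := k) z).map (IsScalarTower.toAlgHom k R K)).isAlgebraic⟩
  haveI : IsPurelyInseparable k K := by
    rw [isPurelyInseparable_iff_finSepDegree_eq_one, Field.finSepDegree, Nat.card_eq_one_iff_unique]
    refine ⟨⟨fun σ τ ↦ ?_⟩, ⟨IsScalarTower.toAlgHom k K (AlgebraicClosure K)⟩⟩
    have h := huniq _ (σ.toRingHom.comp (IsLocalRing.residue R)) (τ.toRingHom.comp (IsLocalRing.residue R))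
      (RingHom.ext fun c ↦ (σ.commutes c).trans (τ.commutes c).symm)
    refine AlgHom.ext fun z ↦ ?_
    obtain ⟨z, rfl⟩ := IsLocalRing.residue_surjective z
    exact RingHom.congr_fun h z
  obtain ⟨n, c, hc⟩ := IsPurelyInseparable.pow_mem k (ringExpChar k) (IsLocalRing.residue R a)
  refine ⟨n, c, ?_⟩
  rw [← mem_nilradical, hnil, IsLocalRing.eq_maximalIdeal hm, ← IsLocalRing.residue_eq_zero_iff, map_sub, map_pow]
  rw [sub_eq_zero, ← hc]
  rfl

/-- Purely inseparable algebras in the elementwise sense have at most one embedding into each field. -/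
theorem unique_hom_of_radicial {k R : Type u} [Field k] [CommRing R] [Algebra k R]
    (h : ∀ a : R, ∃ (n : ℕ) (c : k), IsNilpotent (a ^ (ringExpChar k ^ n) - algebraMap k R c))
    (M : Type u) [Field M] (φ₁ φ₂ : R →+* M) (h12 : φ₁.comp (algebraMap k R) = φ₂.comp (algebraMap k R)) :
    φ₁ = φ₂ := by
  refine RingHom.ext fun a ↦ ?_
  obtain ⟨n, c, hc⟩ := h a
  have key : ∀ φ : R →+* M, φ a ^ (ringExpChar k ^ n) = φ (algebraMap k R c) := fun φ ↦ by
    have := (hc.map φ).eq_zero
    rwa [map_sub, map_pow, sub_eq_zero] at this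
  haveI : ExpChar M (ringExpChar k) :=
    expChar_of_injective_ringHom (φ₁.comp (algebraMap k R)).injective _
  refine iterateFrobenius_inj M (ringExpChar k) n ?_
  rw [iterateFrobenius_def, iterateFrobenius_def, key, key]
  exact RingHom.congr_fun h12 c

/-- Geometric connectedness of a proper scheme over a field read off its global functions. -/
theorem geometricallyConnected_iff_globalSections (k : Type u) [Field k] {X : Scheme.{u}}
    (f : X ⟶ Spec (CommRingCat.of k)) [IsProper f] :
    GeometricallyConnected f ↔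
      (IsLocalRing Γ(X, ⊤) ∧ ringKrullDim Γ(X, ⊤) = 0 ∧
        ∀ a : Γ(X, ⊤), ∃ (n : ℕ) (c : k),
          IsNilpotent (a ^ (ringExpChar k ^ n) - f.appTop.hom ((Scheme.ΓSpecIso (CommRingCat.of k)).inv.hom c))) := by
  let φ : CommRingCat.of k ⟶ Γ(X, ⊤) := (Scheme.ΓSpecIso (CommRingCat.of k)).inv ≫ f.appTop
  let b := Spec.map φ
  let a := X.toSpecΓ
  have hf : a ≫ b = f := by
    show X.toSpecΓ ≫ Spec.map _ = f
    rw [Spec.map_comp, ← Scheme.toSpecΓ_naturality_assoc, toSpecΓ_SpecMap_ΓSpecIso_inv, Category.comp_id]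
  letI := φ.hom.toAlgebra
  have hφ : φ.hom.IsIntegral := by
    exact RingHom.isIntegral_respectsIso.2 f.appTop.hom
      (Scheme.ΓSpecIso (CommRingCat.of k)).symm.commRingCatIsoToRingEquiv
      (isIntegral_appTop_of_universallyClosed f)
  haveI : Algebra.IsIntegral k Γ(X, ⊤) := ⟨hφ⟩
  haveI : IsIntegralHom b := IsIntegralHom.SpecMap_iff.mpr hφ
  haveI : IsProper (a ≫ b) := by rw [hf]; infer_instance
  haveI : IsProper a := IsProper.of_comp a b
  haveI : GeometricallyConnected a := by
    refine (GeometricallyConnected.iff_geometricallyConnected_fiber a).mpr fun s ↦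
      (GeomFib.geometricallyConnected_fiber_iff a s).mpr ?_
    refine nGeom_eq_one (R := Γ(X, ⊤)) a ?_ s
    rw [Scheme.toSpecΓ_appTop]
    infer_instance
  constructor
  · intro hg
    haveI : GeometricallyConnected (a ≫ b) := by rw [hf]; exact hg
    have hb := isUnivHomeo_of_factor a b
    have hbij : IsHomeomorph b := hb _ _ _ (IsPullback.id_vert b)
    haveI : Nontrivial Γ(X, ⊤) := PrimeSpectrum.nonempty_iff_nontrivial.mp
      ⟨hbij.surjective.hasRightInverse.choose (IsLocalRing.closedPoint k)⟩
    haveI : UniversallyInjective b := ⟨fun X' S' i₁ i₂ b' hsq ↦ (hb i₁ i₂ b' hsq).injective⟩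
    refine local_of_unique_hom fun M _ φ₁ φ₂ h12 ↦ ?_
    have hh : Function.Injective fun g : Spec (CommRingCat.of M) ⟶ Spec Γ(X, ⊤) ↦ g ≫ b :=
      ((tfae_universallyInjective b).out 0 1 rfl rfl).mp ‹UniversallyInjective b› M
    have he : Spec.map (CommRingCat.ofHom φ₁) ≫ b = Spec.map (CommRingCat.ofHom φ₂) ≫ b := by
      rw [← Spec.map_comp, ← Spec.map_comp]
      exact congrArg Spec.map (CommRingCat.hom_ext h12)
    exact congrArg CommRingCat.Hom.hom (Spec.map_injective (hh he))
  · rintro ⟨hloc, -, hrad⟩
    haveI : UniversallyInjective b := by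
      refine ((tfae_universallyInjective b).out 0 1).2 fun (M : Type u) [Field M] g₁ g₂ hg ↦ ?_
      obtain ⟨φ₁, rfl⟩ := Spec.map_surjective g₁
      obtain ⟨φ₂, rfl⟩ := Spec.map_surjective g₂
      have hg' : Spec.map φ₁ ≫ b = Spec.map φ₂ ≫ b := hg
      rw [← Spec.map_comp, ← Spec.map_comp] at hg'
      exact congrArg Spec.map (CommRingCat.hom_ext (unique_hom_of_radicial hrad M φ₁.hom φ₂.hom
        (congrArg CommRingCat.Hom.hom (Spec.map_injective hg'))))
    haveI : Surjective b := ⟨fun p ↦ ⟨IsLocalRing.closedPoint Γ(X, ⊤), @Subsingleton.elim (PrimeSpectrum k) _ _ _⟩⟩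
    rw [← hf]
    exact geometricallyConnected_comp_univHomeo a b

end Groth.Agent.SteinGen
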