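import Groth.Agent.SteinGen.Basic
import Groth.Agent.NormSect.Basic
import Groth.Prelude.Def_Pi1

/-!
# Pushforward of the structure sheaf along proper morphisms to normal schemes
-/

set_option autoImplicit false

universe u

open CategoryTheory CategoryTheory.Limits AlgebraicGeometry

set_option backward.isDefEq.respectTransparency false
set_option linter.style.haveILetI false

noncomputable section

namespace Groth.Agent.SteinGen

/-- Integral elements of a ring embedded in the fraction field of a normal domain come from the domain. -/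
theorem bijective_of_integral_embedding {A R K : Type u} [CommRing A] [IsDomain A] [IsIntegrallyClosed A]
    [CommRing R] [Field K] (φ : A →+* R) (hφ : φ.IsIntegral) (ψ : R →+* K) (hψ : Function.Injective ψ)
    (hfrac : ∀ k : K, ∃ a b : A, ψ (φ b) ≠ 0 ∧ k * ψ (φ b) = ψ (φ a))
    (hinj : Function.Injective (ψ.comp φ)) : Function.Bijective φ := by
  refine ⟨fun a b h ↦ hinj (congrArg ψ h), fun r ↦ ?_⟩
  letI := (ψ.comp φ).toAlgebra
  haveI : FaithfulSMul A K := (faithfulSMul_iff_algebraMap_injective A K).mpr hinj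
  let ι : FractionRing A →+* K := IsFractionRing.lift hinj
  obtain ⟨a, b, hb, hab⟩ := hfrac (ψ r)
  obtain ⟨P, hP, hP0⟩ := hφ r
  let w : FractionRing A := algebraMap A _ a / algebraMap A _ b
  have hw : ι w = ψ r := by
    simp only [w, ι, map_div₀, IsFractionRing.lift_algebraMap]
    exact (div_eq_iff (hb : (ψ.comp φ) b ≠ 0)).mpr hab.symm
  obtain ⟨c, hc⟩ := IsIntegrallyClosed.isIntegral_iff.mp (⟨P, hP, ι.injective (by
    rw [Polynomial.hom_eval₂, map_zero, hw,
      show ι.comp (algebraMap A (FractionRing A)) = ψ.comp φ from RingHom.ext (IsFractionRing.lift_algebraMap hinj),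
      ← Polynomial.hom_eval₂, hP0, map_zero])⟩ : IsIntegral A w)
  refine ⟨c, hψ ?_⟩
  rw [← hw, ← hc, IsFractionRing.lift_algebraMap]
  rfl

/-- Evaluation at the generic point exhibits the residue field there as the field of fractions. -/
theorem evaluation_genericPoint {S : Scheme.{u}} [IsIntegral S] {V : S.Opens} (hV : IsAffineOpen V) [Nonempty V]
    (hξV : genericPoint ↑S ∈ V) :
    Function.Injective (S.evaluation V (genericPoint ↑S) hξV) ∧
    ∀ k : S.residueField (genericPoint ↑S), ∃ a b : Γ(S, V),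
      S.evaluation V (genericPoint ↑S) hξV b ≠ 0 ∧
        k * S.evaluation V (genericPoint ↑S) hξV b = S.evaluation V (genericPoint ↑S) hξV a := by
  let ρ : S.functionField →+* S.residueField (genericPoint ↑S) := (S.residue (genericPoint ↑S)).hom
  have hρ : Function.Injective ρ := ρ.injective
  refine ⟨hρ.comp (germ_injective_of_isIntegral S _ hξV), fun k ↦ ?_⟩
  obtain ⟨z, rfl⟩ : ∃ z : S.functionField, ρ z = k := Ideal.Quotient.mk_surjective k
  haveI := functionField_isFractionRing_of_isAffineOpen S V hV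
  obtain ⟨a, b, hb, hab⟩ := IsFractionRing.div_surjective (A := Γ(S, V)) (K := S.functionField) z
  have hb' : algebraMap Γ(S, V) S.functionField b ≠ 0 :=
    (map_ne_zero_iff _ (IsFractionRing.injective _ _)).mpr (nonZeroDivisors.ne_zero hb)
  refine ⟨a, b, (map_ne_zero_iff ρ hρ).mpr hb', ?_⟩
  have hz : z * algebraMap Γ(S, V) S.functionField b = algebraMap Γ(S, V) S.functionField a := by
    rw [← hab, div_mul_cancel₀ _ hb']
  exact (map_mul ρ z _).symm.trans (congrArg ρ hz)

variable {X S : Scheme.{u}} (f : X ⟶ S)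

/-- Over a normal integral base, trivial generic global sections give trivial global sections. -/
theorem bijective_app_of_normal [IsProper f] [IsIntegral S] (hS : Pi1.IsNormalScheme S) [IsReduced X]
    (hgen : ∀ Z ∈ irreducibleComponents ↑X, ∀ x : X, IsGenericPoint x Z → f x = genericPoint ↑S)
    (h0 : Function.Bijective ((f.fiberToSpecResidueField (genericPoint ↑S)).appTop))
    {V : S.Opens} (hV : IsAffineOpen V) [Nonempty V] : Function.Bijective (f.app V) := by
  let ξ := genericPoint ↑S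
  haveI : IsDomain Γ(S, V) := inferInstance
  haveI : IsIntegrallyClosed Γ(S, V) := NormSect.isIntegrallyClosed_sections V fun x _ ↦ (hS x).2
  have hξV : ξ ∈ V := by
    obtain ⟨x⟩ := ‹Nonempty V›
    exact ((genericPoint_spec S).specializes (Set.mem_univ x.1)).mem_open V.2 x.2
  let α := (S.fromSpecResidueField ξ).appLE V ⊤ (fun t _ ↦ by
    show S.fromSpecResidueField ξ t ∈ V
    rw [Scheme.fromSpecResidueField_apply]; exact hξV)
  have hle : ⊤ ≤ f.fiberι ξ ⁻¹ᵁ (f ⁻¹ᵁ V) := fun t _ ↦ by
    show f (f.fiberι ξ t) ∈ V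
    rw [show f (f.fiberι ξ t) = ξ from (f.range_fiberι ξ).le ⟨t, rfl⟩]
    exact hξV
  let β := (f.fiberι ξ).appLE (f ⁻¹ᵁ V) ⊤ hle
  let γ := (f.fiberToSpecResidueField ξ).appTop
  have hcomm : f.app V ≫ β = α ≫ γ := by
    have key : ∀ (k k' : f.fiber ξ ⟶ S) (_ : k = k') (e : ⊤ ≤ k ⁻¹ᵁ V) (e' : ⊤ ≤ k' ⁻¹ᵁ V),
        k.appLE V ⊤ e = k'.appLE V ⊤ e' := fun k k' h e e' ↦ by subst h; rfl
    rw [Scheme.Hom.app_eq_appLE, Scheme.Hom.appLE_comp_appLE]
    show _ = (S.fromSpecResidueField ξ).appLE V ⊤ _ ≫ (f.fiberToSpecResidueField ξ).app ⊤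
    rw [Scheme.Hom.app_eq_appLE, Scheme.Hom.appLE_comp_appLE]
    exact key _ _ (pullback.condition (f := f) (g := S.fromSpecResidueField ξ)) _ _
  let ε : Γ(Spec (S.residueField ξ), ⊤) ≃+* S.residueField ξ :=
    (Scheme.ΓSpecIso _).commRingCatIsoToRingEquiv
  let g : Γ(f.fiber ξ, ⊤) ≃+* Γ(Spec (S.residueField ξ), ⊤) := (RingEquiv.ofBijective γ.hom h0).symm
  let ψ : Γ(X, f ⁻¹ᵁ V) →+* S.residueField ξ := (ε.toRingHom.comp g.toRingHom).comp β.hom
  have hψφ : ∀ a, ψ (f.app V a) = ε (α a) := fun a ↦ by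
    show ε (g (β (f.app V a))) = _
    rw [show β (f.app V a) = γ (α a) from ConcreteCategory.congr_hom hcomm a]
    exact congrArg ε ((RingEquiv.ofBijective γ.hom h0).symm_apply_apply (α a))
  have hα : ∀ a, ε (α a) = S.evaluation V ξ hξV a := fun a ↦ by
    have h1 : α = S.evaluation V ξ hξV ≫ (Scheme.ΓSpecIso (S.residueField ξ)).inv := by
      show ((Spec.map (S.residue ξ)) ≫ S.fromSpecStalk ξ).appLE V ⊤ _ = _
      rw [Scheme.Hom.comp_appLE, Scheme.fromSpecStalk_app hξV, Scheme.evaluation]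
      simp only [Category.assoc, Scheme.Hom.map_appLE]
      rw [show (Spec.map (S.residue ξ)).appLE ⊤ ⊤ (by simp) = (Spec.map (S.residue ξ)).appTop by
        simp [Scheme.Hom.appTop, Scheme.Hom.appLE]]
      rw [← Scheme.ΓSpecIso_inv_naturality]
    rw [h1]
    exact (Scheme.ΓSpecIso (S.residueField ξ)).inv_hom_id_apply _
  have hψ : Function.Injective ψ := by
    refine (ε.injective.comp g.injective).comp ?_
    rw [injective_iff_map_eq_zero]
    intro s hs
    refine (AlgebraicGeometry.basicOpen_eq_bot_iff s).mp (eq_bot_iff.mpr fun x hx ↦ ?_)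
    obtain ⟨w, hwξ, hwx⟩ : ∃ w : X, f w = ξ ∧ w ⤳ x := by
      have hZ := irreducibleComponent_mem_irreducibleComponents x
      have hw := hZ.1.isGenericPoint_genericPoint (isClosed_of_mem_irreducibleComponents _ hZ)
      exact ⟨_, hgen _ hZ _ hw, hw.specializes mem_irreducibleComponent⟩
    have hw : w ∈ X.basicOpen s := hwx.mem_open (X.basicOpen s).2 hx
    obtain ⟨t, rfl⟩ := (f.range_fiberι ξ).ge hwξ
    have : t ∈ (f.fiber ξ).basicOpen (β s) := by
      rw [Scheme.basicOpen_appLE]
      exact ⟨trivial, hw⟩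
    rw [hs, Scheme.basicOpen_zero] at this
    exact this
  refine bijective_of_integral_embedding (f.app V).hom (isIntegral_app f hV) ψ hψ (fun k ↦ ?_) ?_
  · obtain ⟨a, b, h1, h2⟩ := (evaluation_genericPoint hV hξV).2 k
    refine ⟨a, b, ?_, ?_⟩
    · rw [hψφ, hα]; exact h1
    · rw [hψφ, hψφ, hα, hα]; exact h2
  · intro a b hab
    have : ψ (f.app V a) = ψ (f.app V b) := hab
    rw [hψφ, hψφ, hα, hα] at this
    exact (evaluation_genericPoint hV hξV).1 this

/-- Over a normal integral base, trivial generic global sections give trivial direct image. -/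
theorem isIso_app_of_normal [IsProper f] [IsIntegral S] (hS : Pi1.IsNormalScheme S) [IsReduced X]
    (hgen : ∀ Z ∈ irreducibleComponents ↑X, ∀ x : X, IsGenericPoint x Z → f x = genericPoint ↑S)
    (h0 : Function.Bijective ((f.fiberToSpecResidueField (genericPoint ↑S)).appTop)) (U : S.Opens) :
    IsIso (f.app U) := by
  refine isIso_app_of_affine_cover f
    (fun V : {V : S.Opens // IsAffineOpen V ∧ Nonempty V} ↦ V.1) (fun V ↦ V.2.1) (fun y ↦ ?_)
    (fun V ↦ haveI := V.2.2; bijective_app_of_normal f hS hgen h0 V.2.1) U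
  obtain ⟨V, hV, hy, -⟩ := exists_isAffineOpen_mem_and_subset (x := y) (U := (⊤ : S.Opens)) trivial
  exact ⟨⟨V, hV, ⟨⟨y, hy⟩⟩⟩, hy⟩

end Groth.Agent.SteinGen
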