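import Groth.Agent.GeomFib.Consequences
import Groth.Agent.GeomConn.Basic
import Groth.Prelude.Def_Flat

/-!
# Integral parts of factorizations of geometrically connected morphisms
-/

set_option autoImplicit false

universe u

open CategoryTheory CategoryTheory.Limits AlgebraicGeometry Polynomial

set_option backward.isDefEq.respectTransparency false
set_option linter.style.haveILetI false

noncomputable section

namespace Groth.Agent.SteinGen

/-- The spectrum of an algebra integral over a field is totally separated. -/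
theorem totallySeparated_of_integral_field (K B : Type u) [Field K] [CommRing B] [Algebra K B]
    [Algebra.IsIntegral K B] : TotallySeparatedSpace (PrimeSpectrum B) := by
  refine totallySeparatedSpace_iff_exists_isClopen.mpr fun x y hxy ↦ ?_
  have hmax : ∀ p : PrimeSpectrum B, p.asIdeal.IsMaximal := fun p ↦
    Ideal.IsIntegral.isMaximal_of_isMaximal_comap (R := K) p.asIdeal (by
      have : (p.asIdeal.comap (algebraMap K B)).IsPrime := inferInstance
      rw [(Ideal.eq_bot_or_top (p.asIdeal.comap (algebraMap K B))).resolve_right this.ne_top]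
      exact Ideal.bot_isMaximal)
  obtain ⟨a, hay, hax⟩ : ∃ a, a ∈ y.asIdeal ∧ a ∉ x.asIdeal := by
    by_contra! h
    exact hxy (PrimeSpectrum.ext ((hmax y).eq_of_le x.isPrime.ne_top h).symm)
  obtain ⟨P, hP, hPa⟩ := Algebra.IsIntegral.isIntegral (R := K) a
  obtain ⟨n, Q, hQ0, rfl⟩ : ∃ n Q, Q.coeff 0 ≠ 0 ∧ P = X ^ n * Q := by
    obtain ⟨Q, hQ, hdvd⟩ := Polynomial.exists_eq_pow_rootMultiplicity_mul_and_not_dvd P hP.ne_zero 0
    refine ⟨_, Q, fun h ↦ hdvd ?_, by simpa using hQ⟩
    simpa using X_dvd_iff.mpr h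
  refine ⟨PrimeSpectrum.basicOpen a, ⟨?_, (PrimeSpectrum.basicOpen a).2⟩, hax, fun h ↦ h hay⟩
  have hset : (PrimeSpectrum.basicOpen a : Set (PrimeSpectrum B)) = PrimeSpectrum.zeroLocus {aeval a Q} := by
    ext p
    rw [SetLike.mem_coe, PrimeSpectrum.mem_basicOpen, PrimeSpectrum.mem_zeroLocus, Set.singleton_subset_iff,
      SetLike.mem_coe]
    constructor
    · intro hp
      have h0 : aeval a (X ^ n * Q) ∈ p.asIdeal := by
        rw [aeval_def, hPa]; exact zero_mem _
      rw [map_mul, map_pow, aeval_X] at h0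
      exact (p.isPrime.mem_or_mem h0).resolve_left fun h ↦ hp (p.isPrime.mem_of_pow_mem n h)
    · intro hp ha
      have h0 : algebraMap K B (Q.coeff 0) ∈ p.asIdeal := by
        have hsplit : Q = X * Q.divX + C (Q.coeff 0) := (X_mul_divX_add Q).symm
        rw [hsplit, map_add, map_mul, aeval_X, aeval_C] at hp
        exact (Ideal.add_mem_iff_right _ (Ideal.mul_mem_right _ _ ha)).mp hp
      exact p.isPrime.ne_top (Ideal.eq_top_of_isUnit_mem _ h0 (hQ0.isUnit.map _))
  rw [hset]
  exact PrimeSpectrum.isClosed_zeroLocus _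

/-- A connected scheme integral over an algebraically closed field has exactly one rational point. -/
theorem subsingleton_sections {K : Type u} [Field K] [IsAlgClosed K] {Z : Scheme.{u}}
    (q : Z ⟶ Spec (CommRingCat.of K)) [IsIntegralHom q] [ConnectedSpace Z]
    (s t : Spec (CommRingCat.of K) ⟶ Z) (hs : s ≫ q = 𝟙 _) (ht : t ≫ q = 𝟙 _) : s = t := by
  haveI : IsAffine Z := isAffine_of_isAffineHom q
  obtain ⟨ψ, hψ⟩ := Spec.map_surjective (Z.isoSpec.inv ≫ q)
  haveI : IsIntegralHom (Spec.map ψ) := by rw [hψ]; infer_instance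
  letI := ψ.hom.toAlgebra
  haveI : Algebra.IsIntegral K Γ(Z, ⊤) := ⟨IsIntegralHom.SpecMap_iff.mp ‹_›⟩
  haveI := totallySeparated_of_integral_field K Γ(Z, ⊤)
  haveI : ConnectedSpace (PrimeSpectrum Γ(Z, ⊤)) := Z.isoSpec.hom.homeomorph.connectedSpace_iff.mp ‹_›
  haveI : Subsingleton (PrimeSpectrum Γ(Z, ⊤)) :=
    ⟨fun a b ↦ (TotallyDisconnectedSpace.isTotallyDisconnected_univ _ (Set.subset_univ _) isPreconnected_univ) (Set.mem_univ a) (Set.mem_univ b)⟩
  suffices h : s ≫ Z.isoSpec.hom = t ≫ Z.isoSpec.hom by exact (cancel_mono Z.isoSpec.hom).mp h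
  obtain ⟨a, ha⟩ := Spec.map_surjective (s ≫ Z.isoSpec.hom)
  obtain ⟨b, hb⟩ := Spec.map_surjective (t ≫ Z.isoSpec.hom)
  rw [← ha, ← hb]
  have key : ∀ (c : Γ(Z, ⊤) ⟶ CommRingCat.of K) (r : Spec (CommRingCat.of K) ⟶ Z),
      Spec.map c = r ≫ Z.isoSpec.hom → r ≫ q = 𝟙 _ → ∀ k : K, c.hom (ψ.hom k) = k := by
    intro c r hc hr k
    have h : Spec.map (ψ ≫ c) = Spec.map (𝟙 _) := by
      rw [Spec.map_comp, hψ, hc, Category.assoc, Iso.hom_inv_id_assoc, hr, Spec.map_id]
    exact congr($(Spec.map_injective h).hom k)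
  congr 1
  refine CommRingCat.hom_ext (RingHom.ext fun z ↦ ?_)
  have hker : RingHom.ker a.hom = RingHom.ker b.hom :=
    congrArg PrimeSpectrum.asIdeal (Subsingleton.elim
      (⟨RingHom.ker a.hom, RingHom.ker_isPrime _⟩ : PrimeSpectrum Γ(Z, ⊤)) ⟨RingHom.ker b.hom, RingHom.ker_isPrime _⟩)
  have hz : z - ψ.hom (a.hom z) ∈ RingHom.ker a.hom := by
    rw [RingHom.mem_ker, map_sub, key a s ha hs, sub_self]
  rw [hker, RingHom.mem_ker, map_sub, key b t hb ht, sub_eq_zero] at hz
  exact hz.symm

/-- The integral part of a factorization of a geometrically connected morphism through a surjection is a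
universal homeomorphism. -/
theorem isUnivHomeo_of_factor {X Z S : Scheme.{u}} (a : X ⟶ Z) [Surjective a] (b : Z ⟶ S) [IsIntegralHom b]
    [GeometricallyConnected (a ≫ b)] : FlatMor.IsUnivHomeo b := by
  haveI : Surjective b := Surjective.of_comp a b
  haveI : UniversallyInjective b := by
    refine ((tfae_universallyInjective b).out 0 1).2 fun (M : Type u) [Field M] g₁ g₂ hg ↦ ?_
    have hg' : g₁ ≫ b = g₂ ≫ b := hg
    let K := AlgebraicClosure M
    let w : Spec (CommRingCat.of K) ⟶ Spec (CommRingCat.of M) := Spec.map (CommRingCat.ofHom (algebraMap M K))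
    let v := w ≫ g₁ ≫ b
    haveI : ConnectedSpace ↥(pullback (a ≫ b) v) :=
      (‹GeometricallyConnected (a ≫ b)›).geometrically_connectedSpace v (pullback.fst _ _) (pullback.snd _ _)
        (.of_hasPullback _ _)
    let r : pullback (a ≫ b) v ⟶ pullback b v :=
      pullback.lift (pullback.fst _ _ ≫ a) (pullback.snd _ _) (by rw [Category.assoc, pullback.condition])
    have hr : IsPullback (pullback.fst (a ≫ b) v) r a (pullback.fst b v) := by
      refine IsPullback.of_bot ?_ (pullback.lift_fst _ _ _).symm (IsPullback.of_hasPullback b v)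
      rw [pullback.lift_snd]
      exact IsPullback.of_hasPullback _ _
    haveI : Surjective r := MorphismProperty.of_isPullback hr ‹Surjective a›
    haveI : ConnectedSpace ↥(pullback b v) := r.surjective.connectedSpace r.continuous
    haveI : IsIntegralHom (pullback.snd b v) := MorphismProperty.pullback_snd _ _ inferInstance
    have h := subsingleton_sections (pullback.snd b v) (pullback.lift (w ≫ g₁) (𝟙 _) (by simp [v]))
      (pullback.lift (w ≫ g₂) (𝟙 _) (by simp [v, hg'])) (pullback.lift_snd _ _ _) (pullback.lift_snd _ _ _)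
    have h' := congrArg (· ≫ pullback.fst b v) h
    simp only [pullback.lift_fst] at h'
    haveI : Flat w := (HasRingHomProperty.Spec_iff (P := @Flat)).mpr (RingHom.flat_algebraMap_iff.mpr inferInstance)
    haveI : Surjective w := GeomConn.surjective_Spec_field
    haveI : QuasiCompact w := inferInstance
    exact (cancel_epi w).mp h'
  intro X' S' i₁ i₂ b' hsq
  haveI : IsIntegralHom b' := MorphismProperty.of_isPullback hsq.flip inferInstance
  haveI : Surjective b' := MorphismProperty.of_isPullback hsq.flip inferInstance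
  haveI : UniversallyInjective b' := MorphismProperty.of_isPullback hsq.flip inferInstance
  exact GeomConn.isHomeomorph_of_integral b'

end Groth.Agent.SteinGen
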