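import Groth.Agent.SteinGen.GeomConn
import Groth.Agent.SteinGen.UnivHomeo

/-!
# The Stein factorization and universal homeomorphisms
-/

set_option autoImplicit false

universe u

open CategoryTheory CategoryTheory.Limits AlgebraicGeometry

set_option backward.isDefEq.respectTransparency false
set_option linter.style.haveILetI false

noncomputable section

namespace Groth.Agent.SteinGen

/-- The first map of the Stein factorization has geometrically connected fibres. -/
instance geometricallyConnected_toNormalization {X S : Scheme.{u}} (f : X ⟶ S) [IsProper f] :
    GeometricallyConnected f.toNormalization :=
  (GeometricallyConnected.iff_geometricallyConnected_fiber f.toNormalization).mpr fun s ↦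
    (GeomFib.geometricallyConnected_fiber_iff f.toNormalization s).mpr (nGeom_toNormalization f s)

theorem isUnivHomeo_fromNormalization {X S : Scheme.{u}} (f : X ⟶ S) [IsProper f] [GeometricallyConnected f] :
    FlatMor.IsUnivHomeo f.fromNormalization := by
  haveI : GeometricallyConnected (f.toNormalization ≫ f.fromNormalization) := by
    rw [f.toNormalization_fromNormalization]; infer_instance
  exact isUnivHomeo_of_factor f.toNormalization f.fromNormalization

theorem isUnivHomeo_normalizationPullback {X S T : Scheme.{u}} (f : X ⟶ S) [IsProper f] (g : T ⟶ S) :
    FlatMor.IsUnivHomeo (f.normalizationPullback g) := by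
  haveI : IsProper (pullback.snd f g) := MorphismProperty.pullback_snd _ _ inferInstance
  let m := (pullback.snd f g).toNormalization ≫ f.normalizationPullback g
  have hsq : IsPullback (pullback.fst f g) m f.toNormalization (pullback.fst f.fromNormalization g) := by
    refine IsPullback.of_bot ?_ ?_ (IsPullback.of_hasPullback f.fromNormalization g)
    · rw [f.toNormalization_fromNormalization, show m ≫ pullback.snd _ _ = pullback.snd f g by simp [m]]
      exact IsPullback.of_hasPullback f g
    · simp [m]
  haveI : GeometricallyConnected m := MorphismProperty.of_isPullback hsq inferInstance
  exact isUnivHomeo_of_factor (pullback.snd f g).toNormalization (f.normalizationPullback g)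

end Groth.Agent.SteinGen
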