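import Groth.Agent.SteinGen.Count
import Groth.Agent.SteinGen.UnibranchAlg
import Groth.Agent.Unibranch.Scheme

/-!
# The Stein factorization over a geometrically unibranch base with geometrically connected generic fibre
-/

set_option autoImplicit false

universe u

open CategoryTheory CategoryTheory.Limits AlgebraicGeometry

set_option backward.isDefEq.respectTransparency false
set_option linter.style.haveILetI false

noncomputable section

namespace Groth.Agent.SteinGen

/-- Geometric points of the finite part over a point with geometrically connected fibre coincide. -/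
theorem eq_of_geomConn_fibre {X S : Scheme.{u}} (f : X ⟶ S) [IsProper f] (s : S)
    (hs : MoreMor.nGeomConnComp f s = 1) {Ω : Type u} [Field Ω] [IsAlgClosed Ω]
    (g₁ g₂ : Spec (CommRingCat.of Ω) ⟶ f.normalization) (hg : g₁ ≫ f.fromNormalization = g₂ ≫ f.fromNormalization)
    (h : (g₁ ≫ f.fromNormalization) (IsLocalRing.closedPoint Ω) = s) : g₁ = g₂ := by
  let v := g₁ ≫ f.fromNormalization
  rw [nGeom_eq_fromNormalization, (GeomFib.nGeom_eq f.fromNormalization v s h).2,
    ← GeomFib.connectedSpace_iff_card] at hs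
  haveI : IsIntegralHom (pullback.snd f.fromNormalization v) := MorphismProperty.pullback_snd _ _ inferInstance
  have hst := subsingleton_sections (pullback.snd f.fromNormalization v) (pullback.lift g₁ (𝟙 _) (by simp [v]))
    (pullback.lift g₂ (𝟙 _) (by simp [v, hg])) (pullback.lift_snd _ _ _) (pullback.lift_snd _ _ _)
  simpa using congrArg (· ≫ pullback.fst f.fromNormalization v) hst

variable {X S : Scheme.{u}} (f : X ⟶ S) [IsProper f] [IsDominant f] [IsIntegral X] [IsIntegral S]

/-- Geometric points in an affine chart of the finite part agree over a geometrically unibranch point. -/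
theorem eq_of_affine (hS : ∀ s : S, CAlg2.IsGeomUnibranch (S.presheaf.stalk s))
    (hη : MoreMor.nGeomConnComp f (genericPoint S) = 1) {V : S.Opens} (hV : IsAffineOpen V)
    {Ω : Type u} [Field Ω] (y : S) (hyV : y ∈ V)
    (g₁ g₂ : Spec (CommRingCat.of Ω) ⟶ f.normalization) (hg : g₁ ≫ f.fromNormalization = g₂ ≫ f.fromNormalization)
    (hy : (g₁ ≫ f.fromNormalization) (IsLocalRing.closedPoint Ω) = y) : g₁ = g₂ := by
  let bn := f.fromNormalization
  haveI : IsDominant (f.toNormalization ≫ bn) := by rw [f.toNormalization_fromNormalization]; infer_instance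
  haveI : IsDominant bn := IsDominant.of_comp f.toNormalization bn
  haveI : IsSchemeTheoreticallyDominant bn := .of_isDominant bn
  let W := bn ⁻¹ᵁ V
  have hW : IsAffineOpen W := hV.preimage bn
  haveI : Nonempty V := ⟨⟨y, hyV⟩⟩
  haveI : Nonempty W := ⟨⟨g₁ (IsLocalRing.closedPoint Ω), by
    show (g₁ ≫ bn) (IsLocalRing.closedPoint Ω) ∈ V
    rw [hy]; exact hyV⟩⟩
  letI := (bn.app V).hom.toAlgebra
  haveI : Algebra.IsIntegral Γ(S, V) Γ(f.normalization, W) := ⟨IsIntegralHom.isIntegral_app bn V hV⟩
  have happ : Spec.map (bn.app V) ≫ hV.fromSpec = hW.fromSpec ≫ bn := by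
    rw [Scheme.Hom.app_eq_appLE]; exact IsAffineOpen.SpecMap_appLE_fromSpec _ hV hW le_rfl
  have hinj : Function.Injective (algebraMap Γ(S, V) Γ(f.normalization, W)) := bn.app_injective V
  have hφ : ∀ g : Spec (CommRingCat.of Ω) ⟶ f.normalization, (g ≫ bn) (IsLocalRing.closedPoint Ω) = y →
      ∃ φ : Γ(f.normalization, W) ⟶ CommRingCat.of Ω, Spec.map φ ≫ hW.fromSpec = g := by
    intro g hgy
    have hsub : Set.range g ⊆ Set.range hW.fromSpec := by
      rw [hW.range_fromSpec]
      rintro _ ⟨t, rfl⟩
      rw [@Subsingleton.elim (PrimeSpectrum Ω) _ t (IsLocalRing.closedPoint Ω)]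
      show (g ≫ bn) (IsLocalRing.closedPoint Ω) ∈ V
      rw [hgy]; exact hyV
    exact ⟨_, (congrArg (· ≫ hW.fromSpec) (Spec.map_preimage _)).trans (IsOpenImmersion.lift_fac _ _ hsub)⟩
  obtain ⟨φ₁, rfl⟩ := hφ g₁ hy
  obtain ⟨φ₂, rfl⟩ := hφ g₂ (hg ▸ hy)
  have hA : bn.app V ≫ φ₁ = bn.app V ≫ φ₂ := by
    refine Spec.map_injective ((cancel_mono hV.fromSpec).mp ?_)
    rw [Spec.map_comp, Spec.map_comp, Category.assoc, Category.assoc, happ, ← Category.assoc, ← Category.assoc]
    exact hg
  obtain ⟨p₀, hp₀, -, hmin, hgu⟩ := Unibranch.exists_guAt_of_affine hV hyV (hS y)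
  obtain rfl : p₀ = ⊥ := bot_unique (hmin ⊥ Ideal.isPrime_bot bot_le)
  let P := (hV.primeIdealOf ⟨y, hyV⟩).asIdeal
  have hker : RingHom.ker (φ₁.hom.comp (bn.app V).hom) = P := by
    have h1 : hV.fromSpec (Spec.map (bn.app V ≫ φ₁) (IsLocalRing.closedPoint Ω)) = y := by
      rw [← Scheme.Hom.comp_apply, Spec.map_comp, Category.assoc, happ, ← Category.assoc]
      exact hy
    have h2 := congrArg PrimeSpectrum.asIdeal (hV.fromSpec.isOpenEmbedding.injective
      (h1.trans (hV.fromSpec_primeIdealOf ⟨y, hyV⟩).symm))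
    refine Eq.trans ?_ h2
    show RingHom.ker _ = Ideal.comap (φ₁.hom.comp (bn.app V).hom) (IsLocalRing.maximalIdeal Ω)
    rw [IsLocalRing.maximalIdeal_eq_bot, RingHom.ker_eq_comap_bot]
  haveI : ExpChar Γ(S, V) (ringExpChar Γ(S, V)) := inferInstance
  have hpi := exists_pow_eq_div (A := Γ(S, V)) (B := Γ(f.normalization, W)) hinj (ringExpChar Γ(S, V))
    fun Ω' _ _ ψ₁ ψ₂ hψ hψi ↦ by
      have hgen : (Spec.map (CommRingCat.ofHom ψ₁) ≫ hW.fromSpec ≫ bn) (IsLocalRing.closedPoint Ω') = genericPoint S := by
        rw [← happ, ← Category.assoc, ← Spec.map_comp, Scheme.Hom.comp_apply]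
        have : (Spec.map (bn.app V ≫ CommRingCat.ofHom ψ₁)) (IsLocalRing.closedPoint Ω') = genericPoint (Spec Γ(S, V)) := by
          rw [genericPoint_eq_bot_of_affine]
          refine PrimeSpectrum.ext ?_
          show Ideal.comap (ψ₁.comp (bn.app V).hom) (IsLocalRing.maximalIdeal Ω') = ⊥
          rw [IsLocalRing.maximalIdeal_eq_bot, ← RingHom.ker_eq_comap_bot]
          exact (RingHom.injective_iff_ker_eq_bot _).mp hψi
        rw [this]
        exact genericPoint_eq_of_isOpenImmersion hV.fromSpec
      have := eq_of_geomConn_fibre f (genericPoint S) hη (Spec.map (CommRingCat.ofHom ψ₁) ≫ hW.fromSpec)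
        (Spec.map (CommRingCat.ofHom ψ₂) ≫ hW.fromSpec) (by
          rw [Category.assoc, Category.assoc, ← happ, ← Category.assoc, ← Category.assoc, ← Spec.map_comp, ← Spec.map_comp]
          congr 2
          exact CommRingCat.hom_ext hψ) (by rw [Category.assoc]; exact hgen)
      exact congrArg CommRingCat.Hom.hom (Spec.map_injective ((cancel_mono hW.fromSpec).mp this))
  rw [CommRingCat.hom_ext (unique_hom_of_guAt hinj P (guAt_of_quotient_bot hgu) (ringExpChar Γ(S, V)) hpi φ₁.hom φ₂.hom
    (congrArg CommRingCat.Hom.hom hA) hker)]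

/-- The finite part of the Stein factorization is a universal homeomorphism over a geometrically
unibranch base, when the generic fibre is geometrically connected. -/
theorem isUnivHomeo_fromNormalization_of_unibranch (hS : ∀ s : S, CAlg2.IsGeomUnibranch (S.presheaf.stalk s))
    (hη : GeometricallyConnected (f.fiberToSpecResidueField (genericPoint S))) :
    FlatMor.IsUnivHomeo f.fromNormalization := by
  let bn := f.fromNormalization
  haveI : IsDominant (f.toNormalization ≫ bn) := by rw [f.toNormalization_fromNormalization]; infer_instance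
  haveI : IsDominant bn := IsDominant.of_comp f.toNormalization bn
  haveI : Surjective bn := by
    refine ⟨fun s ↦ ?_⟩
    have hd : DenseRange bn := bn.denseRange
    rw [DenseRange, dense_iff_closure_eq, bn.isClosedMap.isClosed_range.closure_eq] at hd
    exact hd.ge (Set.mem_univ s)
  haveI : UniversallyInjective bn := by
    refine ((tfae_universallyInjective bn).out 0 1).2 fun (M : Type u) [Field M] g₁ g₂ hg ↦ ?_
    obtain ⟨V, hV, hyV, -⟩ := exists_isAffineOpen_mem_and_subset (x := (g₁ ≫ bn) (IsLocalRing.closedPoint M))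
      (U := (⊤ : S.Opens)) trivial
    exact eq_of_affine f hS ((GeomFib.geometricallyConnected_fiber_iff f _).mp hη) hV _ hyV g₁ g₂ hg rfl
  intro X' S' i₁ i₂ b' hsq
  haveI : IsIntegralHom b' := MorphismProperty.of_isPullback hsq.flip inferInstance
  haveI : Surjective b' := MorphismProperty.of_isPullback hsq.flip inferInstance
  haveI : UniversallyInjective b' := MorphismProperty.of_isPullback hsq.flip inferInstance
  exact GeomConn.isHomeomorph_of_integral b'

end Groth.Agent.SteinGen
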