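import Groth.Agent.SteinGen.OverField
import Groth.Agent.EtIntegral.Conditions

/-!
# Integral morphisms with purely inseparable function field extension after a universally open proper map
-/

set_option autoImplicit false

universe u

open CategoryTheory CategoryTheory.Limits AlgebraicGeometry

set_option backward.isDefEq.respectTransparency false
set_option linter.style.haveILetI false

noncomputable section

namespace Groth.Agent.SteinGen

/-- Two ring maps into a field agreeing on a base over which the common kernel quotient is purely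
inseparable are equal. -/
theorem ringHom_eq_of_pow_mem {R A L M : Type u} [CommRing R] [CommRing A] [Field L] [Field M]
    (φ : R →+* A) (ρ : A →+* L) (hinj : Function.Injective (ρ.comp φ))
    (hrad : ∀ c : A, ∃ (e : ℕ) (s d : R), s ≠ 0 ∧
      ρ (φ s) * ρ c ^ (ringExpChar L ^ e) = ρ (φ d))
    (α β : A →+* M) (hα : RingHom.ker α = RingHom.ker ρ) (hβ : RingHom.ker β = RingHom.ker ρ)
    (h : α.comp φ = β.comp φ) : α = β := by
  ext c
  obtain ⟨e, s, d, hs, hsd⟩ := hrad c
  let q := ringExpChar L
  have hz : φ s * c ^ (q ^ e) - φ d ∈ RingHom.ker ρ := by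
    rw [RingHom.mem_ker, map_sub, map_mul, map_pow, hsd, sub_self]
  have h1 : α (φ s) * α c ^ (q ^ e) = α (φ d) := by
    have := hα.ge hz
    rwa [RingHom.mem_ker, map_sub, map_mul, map_pow, sub_eq_zero] at this
  have h2 : β (φ s) * β c ^ (q ^ e) = β (φ d) := by
    have := hβ.ge hz
    rwa [RingHom.mem_ker, map_sub, map_mul, map_pow, sub_eq_zero] at this
  rw [show β (φ s) = α (φ s) from (RingHom.congr_fun h s).symm,
    show β (φ d) = α (φ d) from (RingHom.congr_fun h d).symm, ← h1] at h2
  have hs' : α (φ s) ≠ 0 := fun h0 ↦ hs (hinj (by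
    rw [map_zero]
    exact hα.le (RingHom.mem_ker.mpr h0)))
  have h3 := (mul_left_cancel₀ hs' h2).symm
  haveI hL : ExpChar L q := inferInstanceAs (ExpChar L (ringExpChar L))
  haveI hR : ExpChar R q := RingHom.expChar (ρ.comp φ) hinj q
  have hinj' : Function.Injective (α.comp φ) := by
    rw [injective_iff_map_eq_zero]
    intro r hr
    exact hinj (by rw [map_zero]; exact hα.le (RingHom.mem_ker.mpr hr))
  haveI hM : ExpChar M q := expChar_of_injective_ringHom hinj' q
  exact iterateFrobenius_inj M q e h3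

/-- The ring map of a point of an affine open. -/
theorem exists_hom_of_mem {Z : Scheme.{u}} {U : Z.Opens} (hU : IsAffineOpen U) (M : Type u) [Field M]
    (g : Spec (CommRingCat.of M) ⟶ Z) (z : Z) (hg : ∀ t, g t = z) (hz : z ∈ U) :
    ∃ α : Γ(Z, U) ⟶ CommRingCat.of M, Spec.map α ≫ hU.fromSpec = g ∧
      RingHom.ker α.hom = (hU.primeIdealOf ⟨z, hz⟩).asIdeal := by
  have hsub : Set.range g ⊆ Set.range hU.fromSpec := by
    rw [hU.range_fromSpec]
    rintro _ ⟨t, rfl⟩
    rw [hg t]
    exact hz
  obtain ⟨α, hα⟩ := Spec.map_surjective (IsOpenImmersion.lift hU.fromSpec g hsub)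
  have hfac : Spec.map α ≫ hU.fromSpec = g := by rw [hα, IsOpenImmersion.lift_fac]
  refine ⟨α, hfac, ?_⟩
  let t : ↥(Spec (CommRingCat.of M)) := ⟨⊥, Ideal.bot_prime⟩
  have : Spec.map α t = hU.primeIdealOf ⟨z, hz⟩ := by
    refine hU.fromSpec.isOpenEmbedding.injective ?_
    rw [hU.fromSpec_primeIdealOf, ← Scheme.Hom.comp_apply, hfac]
    exact hg t
  rw [← this]
  rfl

/-- Points of the Stein factorization above the generic point are radicial. -/
theorem eq_of_generic {X Y Z : Scheme.{u}} [IsIntegral X] [IsIntegral Y] (f : X ⟶ Y) (a : X ⟶ Z)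
    (b : Z ⟶ Y) [IsIntegralHom b] (hab : a ≫ b = f)
    (hdom : f (genericPoint X) ⤳ genericPoint Y)
    (hrad : ∀ x : X.functionField,
      (∃ q : Polynomial Y.functionField, q ≠ 0 ∧
        Polynomial.eval₂ ((f.stalkMap (genericPoint X)).hom.comp (Y.presheaf.stalkSpecializes hdom).hom) x q = 0) →
      ∃ e : ℕ, x ^ (ringExpChar X.functionField ^ e) ∈
        Set.range ((f.stalkMap (genericPoint X)).hom.comp (Y.presheaf.stalkSpecializes hdom).hom))
    (M : Type u) [Field M] (g₁ g₂ : Spec (CommRingCat.of M) ⟶ Z)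
    (h1 : ∀ t, g₁ t = a (genericPoint X)) (h2 : ∀ t, g₂ t = a (genericPoint X))
    (h : g₁ ≫ b = g₂ ≫ b) : g₁ = g₂ := by
  obtain ⟨V, hV, hηV, -⟩ := exists_isAffineOpen_mem_and_subset (x := genericPoint Y) (U := (⊤ : Y.Opens)) trivial
  haveI : Nonempty V := ⟨⟨_, hηV⟩⟩
  haveI := functionField_isFractionRing_of_isAffineOpen Y V hV
  have hU : IsAffineOpen (b ⁻¹ᵁ V) := hV.preimage b
  have hfη : f (genericPoint X) = genericPoint Y :=
    (hdom.antisymm ((genericPoint_spec Y).specializes trivial)).eq
  have haU : a (genericPoint X) ∈ b ⁻¹ᵁ V := by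
    show b (a (genericPoint X)) ∈ V
    rw [← Scheme.Hom.comp_apply, hab, hfη]
    exact hηV
  let γ : Spec (CommRingCat.of X.functionField) ⟶ Z := X.fromSpecStalk (genericPoint X) ≫ a
  have hγ : ∀ t, γ t = a (genericPoint X) := fun t ↦ by
    rw [Subsingleton.elim t (IsLocalRing.closedPoint _)]
    show a (X.fromSpecStalk (genericPoint X) _) = _
    rw [Scheme.fromSpecStalk_closedPoint]
  obtain ⟨ρ, hρ, hρk⟩ := exists_hom_of_mem hU X.functionField γ _ hγ haU
  obtain ⟨α, hα, hαk⟩ := exists_hom_of_mem hU M g₁ _ h1 haU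
  obtain ⟨β, hβ, hβk⟩ := exists_hom_of_mem hU M g₂ _ h2 haU
  let φ := b.appLE V (b ⁻¹ᵁ V) le_rfl
  let σ := (f.stalkMap (genericPoint X)).hom.comp (Y.presheaf.stalkSpecializes hdom).hom
  have hφ : φ.hom.IsIntegral := by
    have h0 : φ = b.app V := by simp [φ, Scheme.Hom.appLE]
    rw [h0]
    exact IsIntegralHom.isIntegral_app b V hV
  have hcompat : σ.comp (algebraMap Γ(Y, V) Y.functionField) = ρ.hom.comp φ.hom := by
    have e : φ ≫ ρ = (Y.presheaf.germ V (genericPoint Y) hηV ≫ Y.presheaf.stalkSpecializes hdom) ≫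
        f.stalkMap (genericPoint X) := by
      refine Spec.map_injective ((cancel_mono hV.fromSpec).mp ?_)
      rw [Spec.map_comp, Category.assoc, IsAffineOpen.SpecMap_appLE_fromSpec b hV hU le_rfl, reassoc_of% hρ,
        Spec.map_comp, Spec.map_comp]
      simp only [Category.assoc]
      show (X.fromSpecStalk (genericPoint X) ≫ a) ≫ b = _
      rw [show Spec.map (Y.presheaf.germ V (genericPoint Y) hηV) ≫ hV.fromSpec =
        Y.fromSpecStalk (genericPoint Y) from hV.fromSpecStalk_eq_fromSpecStalk hηV,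
        Scheme.SpecMap_stalkSpecializes_fromSpecStalk, Scheme.SpecMap_stalkMap_fromSpecStalk,
        Category.assoc, hab]
    exact (congrArg CommRingCat.Hom.hom e).symm
  have hab' : α.hom.comp φ.hom = β.hom.comp φ.hom := by
    refine congrArg CommRingCat.Hom.hom (Spec.map_injective ((cancel_mono hV.fromSpec).mp ?_) : φ ≫ α = φ ≫ β)
    rw [Spec.map_comp, Spec.map_comp, Category.assoc, Category.assoc,
      IsAffineOpen.SpecMap_appLE_fromSpec b hV hU le_rfl, reassoc_of% hα, reassoc_of% hβ, h]
  have hinj : Function.Injective (ρ.hom.comp φ.hom) := by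
    rw [← hcompat, RingHom.coe_comp]
    exact σ.injective.comp (IsFractionRing.injective Γ(Y, V) Y.functionField)
  have hkey : α.hom = β.hom := by
    refine ringHom_eq_of_pow_mem φ.hom ρ.hom hinj (fun c ↦ ?_) α.hom β.hom (hαk.trans hρk.symm)
      (hβk.trans hρk.symm) hab'
    obtain ⟨P, hP, hPc⟩ := hφ c
    obtain ⟨e, r, hr⟩ := hrad (ρ.hom c) ⟨P.map (algebraMap Γ(Y, V) Y.functionField), (hP.map _).ne_zero, by
      rw [Polynomial.eval₂_map, hcompat, ← Polynomial.hom_eval₂, hPc, map_zero]⟩
    obtain ⟨d, s, hs, rfl⟩ := IsFractionRing.div_surjective (A := Γ(Y, V)) r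
    refine ⟨e, s, d, nonZeroDivisors.ne_zero hs, ?_⟩
    rw [← hr, ← RingHom.comp_apply ρ.hom φ.hom s, ← RingHom.comp_apply ρ.hom φ.hom d, ← hcompat]
    show σ _ * σ _ = σ _
    rw [← map_mul, mul_div_cancel₀]
    exact IsFractionRing.to_map_ne_zero_of_mem_nonZeroDivisors hs
  rw [← hα, ← hβ, CommRingCat.hom_ext hkey]

/-- The integral part of the Stein factorization is radicial when every component of `X ×_Y X` dominates
the second factor and the generic point is radicial. -/
theorem universallyInjective_of_components {X Y Z : Scheme.{u}} [IrreducibleSpace X]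
    (f : X ⟶ Y) (a : X ⟶ Z) [Surjective a] (b : Z ⟶ Y) [IsIntegralHom b] (hab : a ≫ b = f)
    (hcomp : ∀ W ∈ irreducibleComponents ↥(pullback f f), Dense ((pullback.snd f f).base '' W))
    (hgen : ∀ (M : Type u) [Field M] (g₁ g₂ : Spec (CommRingCat.of M) ⟶ Z),
      (∀ t, g₁ t = a (genericPoint X)) → (∀ t, g₂ t = a (genericPoint X)) → g₁ ≫ b = g₂ ≫ b → g₁ = g₂) :
    UniversallyInjective b := by
  rw [UniversallyInjective.iff_diagonal]
  subst hab
  let m : pullback (a ≫ b) (a ≫ b) ⟶ pullback b b :=
    pullback.map (a ≫ b) (a ≫ b) b b a a (𝟙 Y) (Category.comp_id _) (Category.comp_id _)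
  haveI : Surjective m :=
    MorphismProperty.pullback_map (P := @Surjective) ‹Surjective a› ‹Surjective a› (by simp) (by simp)
  refine ⟨fun z ↦ ?_⟩
  obtain ⟨w, rfl⟩ := m.surjective z
  let W := irreducibleComponent w
  have hWc : IsClosed W := isClosed_irreducibleComponent
  let ξ := (isIrreducible_irreducibleComponent (x := w)).genericPoint
  have hξ : IsGenericPoint ξ W := by
    have := (isIrreducible_irreducibleComponent (x := w)).isGenericPoint_genericPoint_closure
    rwa [hWc.closure_eq] at this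
  have hw : ξ ⤳ w := hξ.specializes mem_irreducibleComponent
  have hsnd : pullback.snd (a ≫ b) (a ≫ b) ξ = genericPoint X := by
    have hd := hcomp W (irreducibleComponent_mem_irreducibleComponents w)
    have hg : IsGenericPoint (pullback.snd (a ≫ b) (a ≫ b) ξ) Set.univ := by
      have := hξ.image (pullback.snd (a ≫ b) (a ≫ b)).continuous
      rwa [hd.closure_eq] at this
    exact hg.eq (genericPoint_spec X)
  have hfst : a (pullback.fst (a ≫ b) (a ≫ b) ξ) = a (genericPoint X) := by
    refine (EtIntegral.eq_of_specializes b (((genericPoint_spec X).specializes trivial).map a.continuous) ?_).symm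
    show (a ≫ b) (genericPoint X) = (a ≫ b) _
    rw [← hsnd, ← Scheme.Hom.comp_apply, ← pullback.condition, Scheme.Hom.comp_apply]
  let g := (pullback b b).fromSpecResidueField (m ξ)
  have h1 : ∀ t, (g ≫ pullback.fst b b) t = a (genericPoint X) := fun t ↦ by
    rw [Scheme.Hom.comp_apply, Scheme.fromSpecResidueField_apply, ← Scheme.Hom.comp_apply]
    rw [show m ≫ pullback.fst b b = pullback.fst _ _ ≫ a from pullback.lift_fst _ _ _]
    exact hfst
  have h2 : ∀ t, (g ≫ pullback.snd b b) t = a (genericPoint X) := fun t ↦ by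
    rw [Scheme.Hom.comp_apply, Scheme.fromSpecResidueField_apply, ← Scheme.Hom.comp_apply]
    rw [show m ≫ pullback.snd b b = pullback.snd _ _ ≫ a from pullback.lift_snd _ _ _,
      Scheme.Hom.comp_apply, hsnd]
  have heq := hgen _ (g ≫ pullback.fst b b) (g ≫ pullback.snd b b) h1 h2 (by simp [pullback.condition])
  have hmem : m ξ ∈ Set.range (pullback.diagonal b) := by
    have hg : g = (g ≫ pullback.fst b b) ≫ pullback.diagonal b := by
      refine pullback.hom_ext ?_ ?_
      · simp
      · simp [heq]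
    refine ⟨(g ≫ pullback.fst b b) (IsLocalRing.closedPoint _), ?_⟩
    rw [← Scheme.Hom.comp_apply, ← hg, Scheme.fromSpecResidueField_apply]
  exact (hw.map m.continuous).mem_closed (pullback.diagonal b).isClosedEmbedding.isClosed_range hmem

end Groth.Agent.SteinGen
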